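import Mathlib
import Cfsg.Agent.Lib.OO.BG1
import Cfsg.Agent.Lib.Transfer.Kegel

/-!
# Groups with a partition: basic facts
-/

set_option autoImplicit false

namespace Cfsg.Agent.Part

open Subgroup Cfsg.Agent.Coprime Cfsg.Agent.OO
open scoped Pointwise commutatorElement

universe u

variable {G : Type u} [Group G]

/-- `P x` is the component of `x` in a nontrivial partition invariant under conjugation -/
structure Par (P : G → Subgroup G) : Prop where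
  mem : ∀ x, x ≠ 1 → x ∈ P x
  eq : ∀ x, x ≠ 1 → ∀ y ∈ P x, y ≠ 1 → P y = P x
  conj : ∀ g x, P (g * x * g⁻¹) = g •ᶜ P x
  ne_top : ∀ x, x ≠ 1 → P x ≠ ⊤

theorem exists_par [Finite G] (S : Set (Subgroup G)) (hS2 : ∃ H ∈ S, ∃ K ∈ S, H ≠ K)
    (hS1 : ∀ H ∈ S, H ≠ ⊥) (hpart : ∀ g : G, g ≠ 1 → ∃! H : Subgroup G, H ∈ S ∧ g ∈ H) :
    ∃ P : G → Subgroup G, Par P := by
  have h : ∀ g : G, ∃ H : Subgroup G, g ≠ 1 → (H ∈ S ∧ g ∈ H) ∧ ∀ K, K ∈ S ∧ g ∈ K → K = H :=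
    fun g => by
      by_cases e : g = 1
      · exact ⟨⊥, fun h => (h e).elim⟩
      · obtain ⟨H, h⟩ := hpart g e
        exact ⟨H, fun _ => h⟩
  choose Q hQ using h
  have hm : ∀ x y : G, y ∈ (⨅ g : G, g⁻¹ •ᶜ Q (g * x * g⁻¹)) ↔
      ∀ g : G, g * y * g⁻¹ ∈ Q (g * x * g⁻¹) := fun x y => by
    simp only [mem_iInf, mem_conj, inv_inv]
  refine ⟨fun x => ⨅ g : G, g⁻¹ •ᶜ Q (g * x * g⁻¹), fun x hx => (hm x x).2 fun g =>
    (hQ _ (by simpa using hx)).1.2, fun x hx y hy hy1 => ?_, fun g x => ?_, fun x hx e => ?_⟩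
  · refine iInf_congr fun g => ?_
    rw [(hQ (g * y * g⁻¹) (by simpa using hy1)).2 _ ⟨(hQ _ (by simpa using hx)).1.1,
      (hm x y).1 hy g⟩]
  · ext y
    rw [mem_conj, hm, hm]
    refine ⟨fun h k => ?_, fun h k => ?_⟩
    · simpa [mul_assoc] using h (k * g⁻¹)
    · simpa [mul_assoc] using h (k * g)
  · have h1 : Q x = ⊤ := eq_top_iff.2 fun y _ => by
      simpa using (hm x y).1 (by rw [show _ = ⊤ from e]; trivial) 1
    have h2 : ∀ H ∈ S, H = ⊤ := fun H hH => by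
      obtain ⟨z, hz, hz1⟩ := exists_mem_ne_one (hS1 H hH)
      rw [(hQ z hz1).2 H ⟨hH, hz⟩, (hQ z hz1).2 ⊤ ⟨h1 ▸ (hQ x hx).1.1, mem_top z⟩]
    obtain ⟨H, hH, K, hK, hne⟩ := hS2
    exact hne ((h2 H hH).trans (h2 K hK).symm)

namespace Par

variable {P : G → Subgroup G} (h : Par P) {x y z g s u : G} {n : ℕ} {D : Subgroup G}
include h

theorem ne_bot (hx : x ≠ 1) : P x ≠ ⊥ := fun e => hx (mem_bot.1 (e ▸ h.mem x hx))

theorem eq_of_mem (hx : x ≠ 1) (hy : y ≠ 1) (h1 : z ∈ P x) (h2 : z ∈ P y) (hz : z ≠ 1) :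
    P x = P y := (h.eq x hx z h1 hz).symm.trans (h.eq y hy z h2 hz)

theorem eq_one_of_mem (hx : x ≠ 1) (hy : y ∉ P x) (h1 : z ∈ P x) (h2 : z ∈ P y) : z = 1 := by
  by_contra hz
  have hy1 : y ≠ 1 := fun e => hy (e ▸ one_mem _)
  exact hy (h.eq_of_mem hx hy1 h1 h2 hz ▸ h.mem y hy1)

theorem pow_eq_one (hx : x ≠ 1) (hy : y ∉ P x) (h1 : y ^ n ∈ P x) : y ^ n = 1 :=
  h.eq_one_of_mem hx hy h1 (pow_mem (h.mem y fun e => hy (e ▸ one_mem _)) n)

theorem mem_norm_of_conj (hx : x ≠ 1) (hz : z ∈ P x) (h1 : z ≠ 1) (hg : g * z * g⁻¹ ∈ P x) :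
    g ∈ 𝐍(P x) := by
  rw [← conj_eq_self_iff, ← h.eq x hx z hz h1, ← h.conj, h.eq x hx _ hg (by simpa using h1),
    h.eq x hx z hz h1]

theorem mem_norm_of_comm (hx : x ≠ 1) (hz : z ∈ P x) (h1 : z ≠ 1) (hg : g * z = z * g) :
    g ∈ 𝐍(P x) := h.mem_norm_of_conj hx hz h1 (by rwa [hg, mul_inv_cancel_right])

theorem cent1_le (hx : x ≠ 1) : 𝐂[x] ≤ 𝐍(P x) := fun _ hg =>
  h.mem_norm_of_comm hx (h.mem x hx) hx (mem_cent1.1 hg)

theorem orderOf_eq' (hx : x ≠ 1) (hy : y ∉ P x) (hc : x * y = y * x) : orderOf y = orderOf x := by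
  have hc' : Commute x y := hc
  have hm := h.mem x hx
  have h1 : x * y ∉ P x := by rwa [mul_mem_cancel_left hm]
  have hy1 : y ≠ 1 := fun e => hy (e ▸ one_mem _)
  refine Nat.dvd_antisymm (orderOf_dvd_of_pow_eq_one ?_) (orderOf_dvd_of_pow_eq_one ?_)
  · have h2 : x * y ∉ P y := by
      rw [mul_mem_cancel_right (h.mem y hy1)]
      exact fun k => hx (h.eq_one_of_mem hx hy hm k)
    have e : (x * y) ^ orderOf x = y ^ orderOf x := by rw [hc'.mul_pow, pow_orderOf_eq_one, one_mul]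
    rw [← e]
    exact h.pow_eq_one hy1 h2 (e ▸ pow_mem (h.mem y hy1) _)
  · have e : (x * y) ^ orderOf y = x ^ orderOf y := by rw [hc'.mul_pow, pow_orderOf_eq_one, mul_one]
    rw [← e]
    exact h.pow_eq_one hx h1 (e ▸ pow_mem hm _)

/-- commuting elements of different components have the same order -/
theorem orderOf_eq (hx : x ≠ 1) (hz : z ∈ P x) (h1 : z ≠ 1) (hy : y ∉ P x) (hc : z * y = y * z) :
    orderOf y = orderOf z := h.orderOf_eq' h1 (by rwa [h.eq x hx z hz h1]) hc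

theorem mem_of_orderOf_ne (hx : x ≠ 1) (hz : z ∈ P x) (h1 : z ≠ 1) (hc : z * y = y * z)
    (hne : orderOf y ≠ orderOf z) : y ∈ P x :=
  by_contra fun hy => hne (h.orderOf_eq hx hz h1 hy hc)

theorem prime_orderOf [Finite G] (hx : x ≠ 1) (hz : z ∈ P x) (h1 : z ≠ 1) (hy : y ∉ P x)
    (hc : z * y = y * z) : (orderOf y).Prime := by
  obtain ⟨w, hw, hp⟩ := exists_prime_order_mem (H := zpowers z) (by simpa using h1)
  rw [h.orderOf_eq hx (zpowers_le.2 hz hw) (fun e => hp.ne_one (by simp [e])) hy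
    (mem_cent1.1 (cent1_le_of_mem_zpowers hw (mem_cent1.2 hc.symm))).symm]
  exact hp

theorem comm_of_pow (hx : x ≠ 1) (hz : z ∈ 𝐍(P x)) (h1 : z ^ n ∉ P x) (hu : u ∈ P x)
    (hc : u * z ^ n = z ^ n * u) : u * z = z * u := by
  have hz1 : z ≠ 1 := fun e => h1 (by simp [e])
  have h2 : z ∉ P x := fun k => h1 (pow_mem k n)
  have h3 : u ∈ 𝐍(P z) := h.mem_norm_of_comm hz1 (pow_mem (h.mem z hz1) n)
    (fun e => h1 (e ▸ one_mem _)) hc
  have := h.eq_one_of_mem hx h2 (z := u * z * u⁻¹ * z⁻¹)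
    (by rw [mul_assoc, mul_assoc, ← mul_assoc z]; exact mul_mem hu (conj_mem_of_norm hz (inv_mem hu)))
    (mul_mem (conj_mem_of_norm h3 (h.mem z hz1)) (inv_mem (h.mem z hz1)))
  rwa [mul_inv_eq_one, mul_inv_eq_iff_eq_mul] at this

theorem mul_self (hx : x ≠ 1) (hs : s ∉ P x) (h2 : s * s ∈ P x) : s * s = 1 := by
  rw [← sq] at h2 ⊢; exact h.pow_eq_one hx hs h2

theorem inverts (hx : x ≠ 1) (hn : s ∈ 𝐍(P x)) (hs : s ∉ P x) (h2 : s * s ∈ P x) (hz : z ∈ P x) :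
    s * z * s⁻¹ = z⁻¹ := by
  have h3 := h.mul_self hx hs h2
  have h4 := h.mul_self (s := z * s) hx (by rwa [mul_mem_cancel_left hz]) (by
    rw [show z * s * (z * s) = z * (s * z * s⁻¹) * (s * s) by group]
    exact mul_mem (mul_mem hz (conj_mem_of_norm hn hz)) h2)
  rw [show z * s * (z * s) = z * (s * z * s⁻¹) * (s * s) by group, h3, mul_one] at h4
  exact eq_inv_of_mul_eq_one_right h4

theorem nil [Finite G] (hx : x ≠ 1) (hg : g ∈ 𝐍(P x)) (h1 : g ∉ P x) : Nil (P x) := by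
  obtain ⟨w, hw, hp⟩ := exists_prime_order_mem (H := zpowers g) (by
    rw [Ne, zpowers_eq_bot]; exact fun e => h1 (e ▸ one_mem _))
  have hw1 : w ∉ P x := fun k => by
    have := h.eq_one_of_mem hx h1 k (zpowers_le.2 (h.mem g fun e => h1 (e ▸ one_mem _)) hw)
    exact hp.ne_one (by simp [this])
  have hn := zpowers_le.2 hg hw
  refine Transfer.isNilpotent_of_coset_pow_eq_one hp hn hw1 fun k hk =>
    h.pow_eq_one hx (by rwa [mul_mem_cancel_left hk]) ?_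
  simpa using Transfer.pow_mul_inv_pow_mem hn hk (orderOf w)

theorem le_of_coprime [Finite G] (hx : x ≠ 1) (hD : D ≤ 𝐍(P x)) (hg : g ∈ P x) (h1 : g ≠ 1)
    (hn : g ∈ 𝐍(D)) (hc : (♯D).Coprime (orderOf g)) : D ≤ P x := by
  have h2 := zpowers_le.2 hn
  rw [← coprime_cent_prod h2 (by rwa [Nat.card_zpowers]) (Or.inr (sol_of_ab (ab_of_isCyclic
    inferInstance)))]
  refine sup_le ((commutator_mono le_rfl (zpowers_le.2 hg)).trans (commutator_le_right' hD))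
    fun d hd => ?_
  rw [cent_zpowers] at hd
  refine h.mem_of_orderOf_ne hx hg h1 (mem_cent1.1 hd.2).symm fun e => h1 ?_
  rw [← orderOf_eq_one_iff]
  exact (Nat.coprime_self _).1 (hc.coprime_dvd_left (e ▸ orderOf_dvd_card hd.1))

end Par

end Cfsg.Agent.Part
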