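import Mathlib
import Cfsg.Agent.Lib.Part.Basic
import Cfsg.Agent.Lib.Frob.Basic
import Cfsg.Agent.Lib.Coprime.FTFinal

/-!
# Partitions with a normal component
-/

set_option autoImplicit false

namespace Cfsg.Agent.Part

open Subgroup Cfsg.Agent.Coprime Cfsg.Agent.OO
open scoped Pointwise commutatorElement

universe u

variable {G : Type u} [Group G] [Finite G] {K L R : Subgroup G} {p q : ℕ} {x y z t : G}

theorem dvd_orderOf (hp : p.Prime) (hz : z ∉ L) (h : z ^ p ∈ L) : p ∣ orderOf z := by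
  by_contra h1
  exact hz (zpowers_le.2 h (mem_zpowers_pow_iff.2 ((Nat.Prime.coprime_iff_not_dvd hp).2 h1)))

omit [Finite G] in
theorem mul_pow_mem (ht : t ∈ 𝐍(L)) (hz : z ∈ L) {n : ℕ} (h : t ^ n ∈ L) : (z * t) ^ n ∈ L := by
  simpa using mul_mem (Transfer.pow_mul_inv_pow_mem ht hz n) h

theorem exists_pow_mem [L.Normal] (hp : p.Prime) (h : p ∣ L.index) : ∃ g, g ∉ L ∧ g ^ p ∈ L := by
  have : Fact p.Prime := ⟨hp⟩
  obtain ⟨g, hg⟩ := exists_prime_orderOf_dvd_card' (G := G ⧸ L) p h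
  obtain ⟨g, rfl⟩ := QuotientGroup.mk_surjective g
  refine ⟨g, fun e => hp.ne_one (by rw [← hg, (QuotientGroup.eq_one_iff g).2 e, orderOf_one]), ?_⟩
  rw [← QuotientGroup.eq_one_iff, QuotientGroup.mk_pow, ← hg, pow_orderOf_eq_one]

theorem exists_norm [K.Normal] (hp : p.Prime)
    (hmax : ∀ L : Subgroup G, L.Normal → K ≤ L → (∀ z ∈ L, ∃ k, z ^ p ^ k ∈ K) → L ≤ K)
    (hd : p ∣ K.index)
    (h2 : 2 ∣ K.index → ∃ s, s ∉ K ∧ s * s ∈ K ∧ ∀ g, g * s * g⁻¹ * s⁻¹ ∈ K) :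
    ∃ q : ℕ, q.Prime ∧ q ≠ p ∧ ∃ (R L : Subgroup G) (t : G), IsPGroup q R ∧ ¬ R ≤ K ∧ K ≤ L ∧
      R ≤ L ∧ t ∈ 𝐍(R) ∧ (∀ z ∈ L, z * t ∉ L ∧ (z * t) ^ p ∈ L) ∧
      ∀ z ∈ L, ∃ k, z ^ q ^ k ∈ K := by
  set π := QuotientGroup.mk' K
  have hπ : ∀ z, π z = 1 ↔ z ∈ K := fun z => QuotientGroup.eq_one_iff z
  obtain ⟨q, hq, h0⟩ : ∃ q : ℕ, q.Prime ∧ Op q (⊤ : Subgroup (G ⧸ K)) ≠ ⊥ := by
    by_cases e : 2 ∣ K.index
    · obtain ⟨s, h3, h4, h5⟩ := h2 e
      refine ⟨2, Nat.prime_two, ne_bot_of_le_ne_bot (b := zpowers (π s))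
        (by rwa [Ne, zpowers_eq_bot, hπ]) (le_Op (normalIn_of_le_Zc (zpowers_le.2 ⟨mem_top _, ?_⟩))
          (isPGroup_of_card_prime_pow (n := 1) ?_))⟩
      · rintro g -
        obtain ⟨g, rfl⟩ := QuotientGroup.mk'_surjective K g
        have := (hπ _).2 (h5 g)
        rwa [map_mul, map_mul, map_mul, map_inv, map_inv, mul_inv_eq_one,
          mul_inv_eq_iff_eq_mul] at this
      · rw [Nat.card_zpowers, pow_one]
        exact orderOf_eq_prime (by rw [sq, ← map_mul, hπ]; exact h4) (by rwa [Ne, hπ])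
    · have := ft.solvable_of_not_dvd (G := G ⧸ K) e
      refine exists_Op_ne_bot (show Group.IsSolvable (⊤ : Subgroup (G ⧸ K)) from inferInstance)
        fun e' => hp.ne_one (Nat.dvd_one.1 (hd.trans (dvd_of_eq ?_)))
      rw [index_eq_card, ← card_top, e', card_bot]
  have : Fact q.Prime := ⟨hq⟩
  have : (Op q (⊤ : Subgroup (G ⧸ K))).Normal := normalIn_top.1 (Op_normal q ⊤)
  set L := (Op q (⊤ : Subgroup (G ⧸ K))).comap π with hL
  have hKL : K ≤ L := fun z hz => by rw [hL, mem_comap, (hπ z).2 hz]; exact one_mem _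
  have hm : L.map π = Op q ⊤ := map_comap_eq_self_of_surjective (QuotientGroup.mk'_surjective K) _
  have h3 : ∀ z ∈ L, ∃ k, z ^ q ^ k ∈ K := fun z hz => by
    obtain ⟨k, hk⟩ := Op_isPGroup q (⊤ : Subgroup (G ⧸ K)) ⟨π z, hz⟩
    exact ⟨k, (hπ _).1 (by rw [map_pow]; exact congrArg Subtype.val hk)⟩
  have h4 : ∀ R : Subgroup G, R ≤ K → R.map π = ⊥ := fun R hR =>
    (map_eq_bot_iff R).2 (by rwa [QuotientGroup.ker_mk'])
  have hqp : q ≠ p := by
    rintro rfl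
    exact h0 (hm ▸ h4 L (hmax L inferInstance hKL h3))
  obtain ⟨R, hR⟩ := exists_syl q L
  obtain ⟨g, hg, hg'⟩ := exists_pow_mem (L := L) hp (by
    rw [← relIndex_mul_index hKL] at hd
    refine (hp.dvd_mul.1 hd).resolve_left fun e => ?_
    rw [← QuotientGroup.ker_mk' K, relIndex_ker, hm] at e
    exact (piGrp_compl_singleton hp).1 (piGrp_compl_of_isPGroup (Op_isPGroup q _) hqp) e)
  obtain ⟨l, hl, t, ht, rfl⟩ := (hR.frattini (normalIn_top.2 inferInstance)).mem_iff.1 (mem_top g)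
  have hn : ∀ g, g ∈ 𝐍(L) := fun g => le_normalizer_of_normal (mem_top g)
  refine ⟨q, hq, hqp, R, L, t, hR.isPGroup, fun e => h0 ?_, hKL, hR.le, ht.2, fun z hz => ⟨?_, ?_⟩, h3⟩
  · rw [← h4 R e, ← hm]
    exact ((hR.hall.map π).eq_self_iff.2 (hm ▸ Op_piGrp q _)).symm
  · rwa [mul_mem_cancel_left hz, ← mul_mem_cancel_left hl]
  · simpa [mul_assoc] using mul_pow_mem (hn (l * t)) (mul_mem hz (inv_mem hl)) hg'

namespace Par

variable {P : G → Subgroup G} (h : Par P)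
include h

theorem isPGroup_of_coset [Fact q.Prime] (hx : x ≠ 1) [(P x).Normal] (hR : IsPGroup q R)
    (hRX : ¬ R ≤ P x) (ht : t ∈ 𝐍(R)) (hp : p.Prime)
    (hc : ∀ k ∈ P x, ∀ a ∈ R, (k * (a * t)) ^ p = 1) : IsPGroup q (P x) := by
  obtain ⟨a, ha, ha'⟩ := SetLike.not_le_iff_exists.1 hRX
  have hnil := h.nil hx (le_normalizer_of_normal (mem_top a)) ha'
  refine PiGrp.isPGroup fun r hr hd => ?_
  by_contra hrq
  have : Fact r.Prime := ⟨hr⟩
  have hV : Zc (Op r (P x)) ≤ P x := (Zc_le _).trans (Op_le r _)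
  have hVp : IsPGroup r (Zc (Op r (P x))) := (Op_isPGroup r _).to_le (Zc_le _)
  have hco := coprime_of_isPGroup_ne hVp hR hrq
  obtain ⟨v, hv, hv1⟩ := exists_mem_ne_one (Zc_ne_bot (Op_nil r _) ((syl_Op_of_nil r hnil).ne_bot hd))
  have : (Zc (Op r (P x))).Normal := normalIn_top.1 ((normalIn_top.2 inferInstance).Op r).Zc
  have h1 := Transfer.pow_card_eq_one_of_coset_pow_eq_one hp (Zc_ab (Op r (P x))) ht
    (fun v hv => hc v (hV hv)) (eq_bot_iff.2 fun w hw => by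
      by_contra hw1
      have e := h.orderOf_eq hx (hV hw.1) hw1 ha' (mem_cent_iff.1 hw.2 a ha).symm
      exact hw1 (orderOf_eq_one_iff.1 ((Nat.coprime_self _).1 ((hco.coprime_dvd_left
        (orderOf_dvd_card hw.1)).coprime_dvd_right (e ▸ orderOf_dvd_card ha))))) hv
  exact hv1 (orderOf_eq_one_iff.1 ((Nat.coprime_self _).1 ((hco.coprime_dvd_left
    (orderOf_dvd_card hv)).coprime_dvd_right (orderOf_dvd_of_pow_eq_one h1))))

theorem orderOf_eq_of_dvd (hx : x ≠ 1) (hp : p.Prime) (hd : p ∣ ♯(P x)) (hn : z ∈ 𝐍(P x))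
    (hz : z ∉ P x) (h1 : p ∣ orderOf z) : orderOf z = p := by
  have : Fact p.Prime := ⟨hp⟩
  have ho := orderOf_pow_orderOf_div (orderOf_pos z).ne' h1
  set y := z ^ (orderOf z / p) with hy
  have hyX : y ∉ P x := fun e => hp.ne_one (by rw [← ho, show y = 1 from h.pow_eq_one hx hz e, orderOf_one])
  have hY : IsPGroup p (zpowers y) :=
    isPGroup_of_card_prime_pow (n := 1) (by rw [Nat.card_zpowers, ho, pow_one])
  obtain ⟨v, hv, hv1⟩ := exists_mem_ne_one (inf_cent_ne_bot_of_isPGroup hY (Op_isPGroup p (P x))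
    (le_norm_Op p (zpowers_le.2 (pow_mem hn _))) ((syl_Op_of_nil p (h.nil hx hn hz)).ne_bot hd))
  have := h.comm_of_pow hx hn hyX (Op_le p _ hv.1) (mem_cent1.1 (cent_zpowers y ▸ hv.2))
  exact ((Nat.dvd_prime (h.prime_orderOf hx (Op_le p _ hv.1) hv1 hz this)).1 h1).resolve_left
    hp.ne_one |>.symm

/-- no component is normal unless `G` is a Frobenius group or has a proper Hughes subgroup -/
theorem norm_ne_top (hF : ∀ H : Subgroup G, ¬ IsFrobeniusComplement H)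
    (hH : ∀ p : ℕ, p.Prime → closure {g : G | g ^ p ≠ 1} = ⊤) (hx : x ≠ 1) : 𝐍(P x) ≠ ⊤ := by
  intro e
  have hN : (P x).Normal := normalizer_eq_top_iff.1 e
  have hn : ∀ g, g ∈ 𝐍(P x) := fun g => e ▸ mem_top g
  have fr : ∀ K : Subgroup G, K.Normal → K ≠ ⊥ → K ≠ ⊤ → ∃ k ∈ K, k ≠ 1 ∧ ∃ g, g ∉ K ∧
      k * g = g * k := fun K _ h1 h2 => by
    by_contra! h3
    obtain ⟨H, h4, h5⟩ := Frob.exists_isFrobPair_of_centralizer_le h1 h2 fun k hk hk1 g hg =>
      by_contra fun e => h3 k hk hk1 g e (mem_cent1.1 hg).symm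
    exact hF H (h4.isFrobeniusComplement h5)
  obtain ⟨v, hv, hv1, y, hy, hc⟩ := fr _ hN (h.ne_bot hx) (h.ne_top x hx)
  have hp := h.prime_orderOf hx hv hv1 hy hc
  have hd : orderOf y ∣ ♯(P x) := h.orderOf_eq hx hv hv1 hy hc ▸ orderOf_dvd_card hv
  have hy' : orderOf y = orderOf v := h.orderOf_eq hx hv hv1 hy hc
  generalize hpe : orderOf y = p at hp hd hy'
  have : Fact p.Prime := ⟨hp⟩
  have k1 : ∀ z, z ∉ P x → p ∣ orderOf z → orderOf z = p := fun z =>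
    h.orderOf_eq_of_dvd hx hp hd (hn z)
  obtain ⟨K, hXK, ⟨hK, hK1⟩, hK2⟩ := Core.exists_maximal_ge
    (P := fun K : Subgroup G => K.Normal ∧ ∀ z ∈ K, ∃ k, z ^ p ^ k ∈ P x) (H := P x)
    ⟨hN, fun z hz => ⟨0, by simpa using hz⟩⟩
  have hmax : ∀ L : Subgroup G, L.Normal → K ≤ L → (∀ z ∈ L, ∃ k, z ^ p ^ k ∈ K) → L ≤ K :=
    fun L k2 k3 k4 => (hK2 L ⟨k2, fun z hz => by
      obtain ⟨k, hk⟩ := k4 z hz
      obtain ⟨j, hj⟩ := hK1 _ hk
      exact ⟨k + j, by rwa [pow_add, pow_mul]⟩⟩ k3).le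
  have k2 : ∀ z ∈ K, z ∉ P x → orderOf z = p := fun z hz hz' => by
    obtain ⟨k, hk⟩ := hK1 z hz
    obtain ⟨j, -, hj⟩ := (Nat.dvd_prime_pow hp).1 (orderOf_dvd_of_pow_eq_one (h.pow_eq_one hx hz' hk))
    refine k1 z hz' (hj ▸ dvd_pow_self p ?_)
    rintro rfl
    exact hz' ((orderOf_eq_one_iff.1 hj) ▸ one_mem _)
  have hC : 𝐂(P x) ≤ K := by
    refine le_sup_right.trans (hmax (K ⊔ 𝐂(P x)) inferInstance le_sup_left fun z hz => ?_)
    obtain ⟨k, hk, c, hc, rfl⟩ := (mem_sup_norm_left le_normalizer_of_normal).1 hz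
    by_cases e : c ∈ P x
    · exact ⟨0, by simpa using mul_mem hk (hXK e)⟩
    · refine ⟨1, mul_pow_mem (le_normalizer_of_normal (mem_top c)) hk ?_⟩
      rw [pow_one, hy', ← h.orderOf_eq hx hv hv1 e (mem_cent_iff.1 hc v hv), pow_orderOf_eq_one]
      exact one_mem _
  have k3 : ¬ p ∣ K.index := fun k => by
    obtain ⟨q, hq, hqp, R, L, t, r1, r2, r3, r4, r5, r6, -⟩ := exists_norm hp hmax k fun k' => by
      obtain ⟨s, s1, s2⟩ := exists_pow_mem Nat.prime_two k'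
      have s3 : s ∉ P x := fun e => s1 (hXK e)
      rw [sq] at s2
      have s4 : s * s ∈ P x := by
        by_contra s5
        have s6 := k2 _ s2 s5
        rw [← sq] at s6 s5
        have s7 := k1 s s3 (s6 ▸ orderOf_pow_dvd 2)
        refine s1 (zpowers_le.2 (sq s ▸ s2 : s ^ 2 ∈ K) ?_)
        rw [eq_of_le_of_card_le (zpowers_le.2 (pow_mem (mem_zpowers s) 2))
          (by rw [Nat.card_zpowers, Nat.card_zpowers, s6, s7])]
        exact mem_zpowers s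
      refine ⟨s, s1, s2, fun g => hC (mem_cent_iff_conj.2 fun w hw => ?_)⟩
      have e1 := h.inverts hx (hn s⁻¹) (by rwa [inv_mem_iff]) (by rw [← mul_inv_rev]; exact inv_mem s4) hw
      have e2 := h.inverts hx (hn (g * s * g⁻¹)) (fun k => s3 (by simpa [mul_assoc] using hN.conj_mem _ k g⁻¹))
        (by simpa [mul_assoc] using hN.conj_mem _ s4 g) (inv_mem hw)
      calc _ = g * s * g⁻¹ * (s⁻¹ * w * s⁻¹⁻¹) * (g * s * g⁻¹)⁻¹ := by group
        _ = _ := by rw [e1, e2, inv_inv]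
    have : Fact q.Prime := ⟨hq⟩
    have := h.isPGroup_of_coset hx r1 (fun e => r2 (e.trans hXK)) r5 hp fun k hk a ha => by
      obtain ⟨s1, s2⟩ := r6 _ (mul_mem (r3 (hXK hk)) (r4 ha))
      rw [← mul_assoc, ← k1 _ (fun e => s1 (r3 (hXK e))) (dvd_orderOf hp s1 s2), pow_orderOf_eq_one]
    exact (piGrp_compl_singleton hp).1 (piGrp_compl_of_isPGroup this hqp) hd
  have k4 : ∀ z : G, z ^ p = 1 → z ∈ K := fun z hz => by
    have e := pow_card_eq_one' (x := (z : G ⧸ K))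
    rw [← QuotientGroup.mk_pow, QuotientGroup.eq_one_iff, ← index_eq_card] at e
    refine zpowers_le.2 e (mem_zpowers_pow_iff.2 (Nat.Coprime.coprime_dvd_right
      (orderOf_dvd_of_pow_eq_one hz) ((Nat.Prime.coprime_iff_not_dvd hp).2 k3).symm))
  obtain ⟨w, hw, hw'⟩ : ∃ w, w ∉ P x ∧ w ^ p ≠ 1 := by
    by_contra! k
    exact h.ne_top x hx (eq_top_iff.2 (hH p hp ▸ (closure_le _).2 fun g hg =>
      by_contra fun e => hg (k g e)))
  obtain ⟨w', k5, hq⟩ := exists_prime_order_mem (H := zpowers w) (by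
    rw [Ne, zpowers_eq_bot]; exact fun e => hw (e ▸ one_mem _))
  have k6 : w' ∉ K := fun e => hw' (by
    have e1 : w' ∉ P x := fun k => hq.ne_one (orderOf_eq_one_iff.2 (h.eq_one_of_mem hx hw k
      (zpowers_le.2 (h.mem w fun e => hw (e ▸ one_mem _)) k5)))
    rw [← k1 w hw (k2 w' e e1 ▸ orderOf_dvd_of_mem_zpowers k5), pow_orderOf_eq_one])
  obtain ⟨T, hT, hyT⟩ := exists_syl_ge (p := p) (M := K) (Q := zpowers y)
    (zpowers_le.2 (k4 y (hpe ▸ pow_orderOf_eq_one y)))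
    (isPGroup_of_card_prime_pow (n := 1) (by rw [Nat.card_zpowers, hpe, pow_one]))
  obtain ⟨l, hl, t, ht, rfl⟩ := (hT.frattini (normalIn_top.2 hK)).mem_iff.1 (mem_top w')
  have k7 : IsPGroup p (P x) := by
    refine h.isPGroup_of_coset hx hT.isPGroup (fun e => hy (e (hyT (mem_zpowers y)))) ht.2 hq
      fun k hk a ha => ?_
    have e1 := mul_mem (mul_mem (hXK hk) (hT.le ha)) (inv_mem hl)
    have e2 : k * (a * t) = k * a * l⁻¹ * (l * t) := by group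
    have e3 : k * (a * t) ∉ K := by rwa [e2, mul_mem_cancel_left e1]
    refine h.pow_eq_one hx (fun e => e3 (hXK e)) (by_contra fun e => e3 (k4 _ ?_))
    have e4 := k2 _ (e2 ▸ mul_pow_mem (le_normalizer_of_normal (mem_top _)) e1
      (pow_orderOf_eq_one (l * t) ▸ one_mem K)) e
    rw [← k1 _ (fun e => e3 (hXK e)) (e4 ▸ orderOf_pow_dvd _), pow_orderOf_eq_one]
  obtain ⟨k, hk, hk1, g, hg, hc⟩ := fr K hK (ne_bot_of_le_ne_bot (h.ne_bot hx) hXK)
    fun e => k6 (e ▸ mem_top _)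
  have k8 : ∀ z, z ∉ K → ¬ p ∣ orderOf z := fun z hz e =>
    hz (k4 z (by rw [← k1 z (fun e => hz (hXK e)) e, pow_orderOf_eq_one]))
  have k9 : p ∣ orderOf k := by
    by_cases e : k ∈ P x
    · exact Nat.card_zpowers k ▸ dvd_card_of_isPGroup (k7.to_le (zpowers_le.2 e)) (by simpa using hk1)
    · exact dvd_of_eq (k2 k hk e).symm
  have hc' : Commute (k * g) g⁻¹ := ((show Commute k g from hc).mul_left (Commute.refl g)).inv_right
  have := hc'.orderOf_mul_dvd_mul_orderOf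
  rw [mul_inv_cancel_right, orderOf_inv] at this
  exact (hp.dvd_mul.1 (k9.trans this)).elim (k8 _ (by rwa [mul_mem_cancel_left hk])) (k8 g hg)

end Par

end Cfsg.Agent.Part
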