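import Mathlib
import Cfsg.Agent.Lib.Part.Normal
import Cfsg.Agent.Lib.Frob.QuatSquare
import Cfsg.Agent.Lib.Coprime.SylowCount
import Cfsg.Agent.Lib.PGrp.ElemAb

/-!
# Partitions of groups with a nontrivial Fitting subgroup (Baer)
-/

set_option autoImplicit false

namespace Cfsg.Agent.Part

open Subgroup Cfsg.Agent.Coprime Cfsg.Agent.OO
open scoped Pointwise commutatorElement

universe u

variable {G : Type u} [Group G] [Finite G] {N Q : Subgroup G} {p : ℕ} {x y m m' : G}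

omit [Finite G] in
theorem pow_mul_mul [hN : N.Normal] (ha : Ab N) (hm : m ∈ N) (hm' : m' ∈ N) (n : ℕ) :
    (y ^ n)⁻¹ * (y * m') ^ n ∈ N ∧
      (y ^ n)⁻¹ * (y * (m * m')) ^ n = (y ^ n)⁻¹ * (y * m) ^ n * ((y ^ n)⁻¹ * (y * m') ^ n) := by
  have e : ∀ n a, (y ^ (n + 1))⁻¹ * (y * a) ^ (n + 1) = y⁻¹ * ((y ^ n)⁻¹ * (y * a) ^ n) * y * a :=
    fun n a => by rw [pow_succ, pow_succ]; group
  induction n with
  | zero => simp
  | succ n ih =>
    have k := hN.conj_mem' _ ih.1 y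
    refine ⟨e n m' ▸ mul_mem k hm', ?_⟩
    rw [e, e, e, ih.2, mul_assoc _ m, ← mul_assoc m, ab_iff.1 ha m hm _ k]
    group

theorem perm_four [Q.Normal] (h4 : ♯Q = 4) (hC : 𝐂(Q) ≤ Q) (h6 : Q.index = 6)
    (hf : ∀ d : G, orderOf d = 3 → ∀ z ∈ Q, z * d = d * z → z = 1) :
    Nonempty (G ≃* Equiv.Perm (Fin 4)) := by
  have := Fact.mk Nat.prime_three
  have h24 : Nat.card G = 24 := by rw [← Q.card_mul_index, h4, h6]
  obtain ⟨D⟩ : Nonempty (Sylow 3 G) := inferInstance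
  have hD : ♯(D : Subgroup G) = 3 := by
    rw [D.card_eq_multiplicity, h24, show 24 = 3 * 8 from rfl, Nat.factorization_mul (by norm_num) (by norm_num)]
    simp [Nat.prime_three.factorization, Nat.factorization_eq_zero_of_not_dvd]
  obtain ⟨d, hd, hd3⟩ := cauchy Nat.prime_three (dvd_of_eq hD.symm)
  have k : ∀ z ∈ Q, z ∈ 𝐍((D : Subgroup G)) → z = 1 := fun z hz hz' => hf d hd3 z hz (by
    have : z * d * z⁻¹ * d⁻¹ ∈ Q ⊓ D := ⟨by
      simpa [mul_assoc] using mul_mem hz (Normal.conj_mem inferInstance _ (inv_mem hz) d),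
      (D : Subgroup G).mul_mem (conj_mem_of_norm hz' hd) (inv_mem hd)⟩
    rwa [inf_eq_bot_of_coprime_card (by rw [h4, hD]; norm_num), mem_bot, mul_inv_eq_one,
      mul_inv_eq_iff_eq_mul] at this)
  have hi : (𝐍((D : Subgroup G))).index = 4 := by
    have h1 := D.card_dvd_index
    have h2 := card_sylow_modEq_one 3 G
    have h3 := (D : Subgroup G).card_mul_index
    rw [hD, h24] at h3
    rw [show (D : Subgroup G).index = 2 ^ 3 by omega, D.card_eq_index_normalizer] at h1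
    rw [D.card_eq_index_normalizer] at h2
    obtain ⟨i, hi, e⟩ := (Nat.dvd_prime_pow Nat.prime_two).1 h1
    rw [e] at h2
    refine e.trans ?_
    interval_cases i
    · obtain ⟨z, hz, z1⟩ := exists_mem_ne_one (H := Q) fun e => by simp [e] at h4
      exact (z1 (k z hz ((index_eq_one.1 e).ge (mem_top z)))).elim
    · revert h2; decide
    · rfl
    · revert h2; decide
  set H := 𝐍((D : Subgroup G))
  set φ := MulAction.toPermHom G (G ⧸ H)
  have hφ : Function.Injective φ := by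
    rw [← MonoidHom.ker_eq_bot_iff, ← H.normalCore_eq_ker, eq_bot_iff]
    have e : H.normalCore ⊓ Q = ⊥ := eq_bot_iff.2 fun z hz => k z hz.2 (normalCore_le H hz.1)
    exact e ▸ le_inf le_rfl ((le_cent_of_inf_eq_bot le_normalizer_of_normal le_normalizer_of_normal e).trans hC)
  exact ⟨(MulEquiv.ofBijective φ (hφ.bijective_of_nat_card_le (by
    rw [Nat.card_perm, ← index_eq_card, hi, h24]; rfl))).trans
      (Finite.equivFinOfCardEq hi).permCongrHom⟩

/-- a partition of a group that is not Frobenius and has no proper Hughes subgroup -/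
structure Gen (P : G → Subgroup G) : Prop extends Par P where
  hF : ∀ H : Subgroup G, ¬ IsFrobeniusComplement H
  hH : ∀ p : ℕ, p.Prime → closure {g : G | g ^ p ≠ 1} = ⊤

namespace Gen

variable {P : G → Subgroup G} (h : Gen P)
include h

theorem norm_ne_top (hx : x ≠ 1) : 𝐍(P x) ≠ ⊤ := h.toPar.norm_ne_top h.hF h.hH hx

theorem exists_norm (hx : x ≠ 1) : ∃ g ∈ 𝐍(P x), g ∉ P x := by
  by_contra! k
  refine h.hF (P x) ((Frob.isFrobeniusComplement_iff _).2 ⟨h.ne_bot hx, h.ne_top x hx,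
    fun g hg z hz hz' => by_contra fun z1 => hg ?_⟩)
  simpa using k _ (h.mem_norm_of_conj (g := g⁻¹) hx hz z1 (by simpa using hz'))

theorem nil (hx : x ≠ 1) : Nil (P x) := by
  obtain ⟨g, h1, h2⟩ := h.exists_norm hx
  exact h.toPar.nil hx h1 h2

theorem not_le [hN : N.Normal] (h0 : N ≠ ⊥) (hx : x ≠ 1) : ∃ m ∈ N, m ∉ P x := by
  by_contra! k
  obtain ⟨z, hz, z1⟩ := exists_mem_ne_one h0
  exact h.norm_ne_top hx (eq_top_iff.2 fun g _ =>
    h.mem_norm_of_conj hx (k z hz) z1 (k _ (hN.conj_mem z hz g)))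

theorem baer [hp : Fact p.Prime] (hQ : Op p (⊤ : Subgroup G) ≠ ⊥) :
    Nonempty (G ≃* Equiv.Perm (Fin 4)) := by
  set Q := Op p (⊤ : Subgroup G)
  have hQn : Q.Normal := normalIn_top.1 (Op_normal p ⊤)
  have hQp : IsPGroup p Q := Op_isPGroup p ⊤
  have hN0 := Zc_ne_bot (Op_nil p ⊤) hQ
  have hab := Zc_ab Q
  have hNQ := Zc_le Q
  have hQC := le_cent_Zc Q
  have hNe : Ab Q → Zc Q = Q := Zc_eq_self
  have hNn : (Zc Q).Normal := normalIn_top.1 (Op_normal p ⊤).Zc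
  generalize Zc Q = N at hN0 hab hNQ hQC hNe hNn
  have hn : ∀ g, g ∈ 𝐍(N) := fun g => le_normalizer_of_normal (mem_top g)
  have hco : ∀ n, ¬ p ∣ n → (♯N).Coprime n := fun n hn => by
    obtain ⟨k, hk⟩ := (hQp.to_le hNQ).exists_card_eq
    exact hk ▸ ((Nat.Prime.coprime_iff_not_dvd hp.out).2 hn).pow_left k
  have a1 : ∀ c ∈ 𝐂(N), c ≠ 1 → orderOf c = p := fun c hc c1 => by
    obtain ⟨m, hm, hm'⟩ := h.not_le hN0 c1
    have e := (mem_cent_iff.1 hc m hm).symm
    rw [← h.orderOf_eq c1 (h.mem c c1) c1 hm' e]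
    exact (piGrp_singleton hQp).piElt (hNQ hm) _ (h.prime_orderOf c1 (h.mem c c1) c1 hm' e) dvd_rfl
  have a2 : ∀ c ∈ 𝐂(N), c ^ p = 1 := fun c hc => by
    by_cases e : c = 1
    · simp [e]
    · rw [← a1 c hc e, pow_orderOf_eq_one]
  have a3 : 𝐂(N) ≤ Q := le_Op (normalIn_top.2 inferInstance) fun c => ⟨1, Subtype.ext (by simpa using a2 c c.2)⟩
  have b1 : ∀ y : G, y ≠ 1 → ¬ p ∣ orderOf y → ∀ d ∈ N, y * d = d * y → d = 1 := fun y y1 hy d hd e => by
    by_contra d1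
    have k := h.mem_of_orderOf_ne y1 (h.mem y y1) y1 e fun e' => hy (by rw [← e', a1 d (hQC (hNQ hd)) d1])
    obtain ⟨m, hm, hm'⟩ := h.not_le hN0 y1
    exact hm' (h.le_of_coprime y1 (fun m hm => h.mem_norm_of_comm y1 k d1 (ab_iff.1 hab m hm d hd))
      (h.mem y y1) y1 (hn y) (hco _ hy) hm)
  have b2 : ∀ w : G, p ∣ orderOf w → PiElt {p} w := fun w hw q hq hd => by
    by_contra hqp
    have w1 : w ≠ 1 := fun e => hq.ne_one (by simpa [e] using hd)
    have o1 := orderOf_pow_orderOf_div (orderOf_pos w).ne' hw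
    have o2 := orderOf_pow_orderOf_div (orderOf_pos w).ne' hd
    have m1 := pow_mem (h.mem w w1) (orderOf w / p)
    have m2 := pow_mem (h.mem w w1) (orderOf w / q)
    have c : w ^ (orderOf w / q) ∈ 𝐂[w ^ (orderOf w / p)] := mem_cent1.2 (pow_mul_comm _ _ _)
    generalize w ^ (orderOf w / p) = x at o1 m1 c
    generalize w ^ (orderOf w / q) = y at o2 m2 c
    have y1 : y ≠ 1 := fun e => hq.ne_one (by simp [← o2, e])
    have hy : ¬ p ∣ orderOf y := fun e => hqp ((Nat.prime_dvd_prime_iff_eq hp.out hq).1 (o2 ▸ e)).symm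
    obtain ⟨d, hd, d1⟩ := exists_mem_ne_one (inf_cent_ne_bot_of_isPGroup (isPGroup_of_card_prime_pow
      (H := zpowers x) (n := 1) (by rw [Nat.card_zpowers, o1, pow_one])) (hQp.to_le hNQ)
      le_normalizer_of_normal hN0)
    rw [cent_zpowers] at hd
    have := h.le_of_coprime (D := N ⊓ 𝐂[x]) w1 (fun m hm => h.mem_norm_of_comm w1 m1
      (fun e => hp.out.ne_one (by simp [← o1, e])) (mem_cent1.1 hm.2)) m2 y1
      (mem_norm_inf (hn y) (le_norm_self _ c)) ((hco _ hy).coprime_dvd_left (card_dvd inf_le_left)) hd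
    exact d1 (b1 y y1 hy d hd.1 (commute_of_nil_of_coprime (h.nil w1) m2 this
      ((hco _ hy).coprime_dvd_left (orderOf_dvd_card hd.1)).symm))
  have b3 : p ∣ Q.index := by
    by_contra k
    have k1 : ∀ z, p ∣ orderOf z → z ∈ Q := fun z hz => zpowers_le.1 ((piGrp_zpowers.2 (b2 z hz)).le_of_relIndex
      le_top le_normalizer_of_normal fun q hq hd e => k (by rwa [relIndex_top_right, e] at hd))
    obtain ⟨n, hn, n1⟩ := exists_mem_ne_one hN0
    obtain ⟨H, h4, h5⟩ := Frob.exists_isFrobPair_of_centralizer_le hQ (fun e => h.norm_ne_top n1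
      (eq_top_iff.2 (e ▸ hQC.trans ((cent_le_cent1 hn).trans (h.cent1_le n1))))) fun z hz z1 g hg => by
        have hc : Commute (z * g) g⁻¹ :=
          ((show Commute z g from (mem_cent1.1 hg).symm).mul_left (Commute.refl g)).inv_right
        have := hc.orderOf_mul_dvd_mul_orderOf
        rw [mul_inv_cancel_right, orderOf_inv, a1 z (hQC hz) z1] at this
        exact (hp.out.dvd_mul.1 this).elim (fun e => (mul_mem_cancel_left hz).1 (k1 _ e)) (k1 g)
    exact h.hF H (h4.isFrobeniusComplement h5)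
  have c1 : ∀ y, y ^ p ∈ Q → y ^ p ≠ 1 → ∀ m ∈ N, ∀ m' ∈ N, m ∉ P y → m' ∉ P y → m * m' ∈ P y :=
    fun y hy hy1 m hm m' hm' k1 k2 => by
    by_contra k3
    have y1 : y ≠ 1 := fun e => hy1 (by simp [e])
    have k : ∀ m ∈ N, m ∉ P y → (y * m) ^ p = 1 := fun m hm k => h.pow_eq_one y1
      (by rwa [mul_mem_cancel_left (h.mem y y1)]) (mul_pow_mem (h.mem_norm_of_comm y1
        (pow_mem (h.mem y y1) p) hy1 (mem_cent_iff.1 (hQC hy) m hm)) (h.mem y y1)
        (a2 m (hQC (hNQ hm)) ▸ one_mem _))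
    have := (pow_mul_mul (y := y) hab hm hm' p).2
    rw [k m hm k1, k m' hm' k2, k _ (mul_mem hm hm') k3] at this
    exact hy1 (by simpa using this)
  have hmax : ∀ L : Subgroup G, L.Normal → Q ≤ L → (∀ z ∈ L, ∃ k, z ^ p ^ k ∈ Q) → L ≤ Q :=
    fun L k1 _ k2 => le_Op (normalIn_top.2 k1) fun z => by
      obtain ⟨k, hk⟩ := k2 z z.2
      exact ⟨k + 1, Subtype.ext (by simpa [pow_succ, pow_mul] using a2 _ (hQC hk))⟩
  by_cases h2 : p = 2
  · subst h2
    have a4 : ∀ z ∈ Q, z⁻¹ = z := fun z hz => inv_eq_of_mul_eq_one_right (sq z ▸ a2 z (hQC hz))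
    obtain rfl := (hNe (ab_iff.2 fun a ha b hb => by
      rw [← a4 _ (mul_mem ha hb), mul_inv_rev, a4 a ha, a4 b hb])).symm
    obtain ⟨y, hy, hy1⟩ : ∃ y, y ^ 2 ∈ Q ∧ y ^ 2 ≠ 1 := by
      by_contra! k
      obtain ⟨y, k1, k2⟩ := exists_pow_mem hp.out b3
      refine k1 (a3 (mem_cent_iff.2 fun m hm => ?_))
      have e1 := k _ (mul_pow_mem (hn y) hm k2)
      have e2 := k y k2
      rw [sq] at e1 e2
      rw [← inv_eq_of_mul_eq_one_right e1, mul_inv_rev, a4 m hm, inv_eq_of_mul_eq_one_right e2]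
    have y1 : y ≠ 1 := fun e => hy1 (by simp [e])
    have hu := pow_mem (h.mem y y1) 2
    obtain ⟨g, -, hg⟩ := SetLike.exists_of_lt (h.norm_ne_top y1).lt_top
    have k : ∀ z ∈ P y, z ∈ P (g * y * g⁻¹) → z = 1 := fun z k1 k2 => h.eq_one_of_mem y1
      (fun e => hg (h.mem_norm_of_conj y1 (h.mem y y1) y1 e)) k1 k2
    have h4 : ♯Q = 4 := by
      obtain ⟨v, hv, hv'⟩ := h.not_le hN0 y1
      rw [← card_inf_mul_relIndex (P y) Q, relIndex_eq_two_iff.2 ⟨v, hv, fun b hb => ?_⟩,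
        show P y ⊓ Q = zpowers (y ^ 2) from le_antisymm (fun m hm => ?_) (zpowers_le.2 ⟨hu, hy⟩),
        Nat.card_zpowers, a1 _ (hQC hy) hy1]
      · by_cases e : m = 1
        · exact e ▸ one_mem _
        have := k _ (mul_mem hm.1 hu) (c1 _ (by simpa [conj_pow] using hQn.conj_mem _ hy g)
          (by simpa [conj_pow] using hy1) m hm.2 _ hy (fun e' => e (k m hm.1 e')) fun e' => hy1 (k _ hu e'))
        exact eq_inv_of_mul_eq_one_left this ▸ inv_mem (mem_zpowers _)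
      · by_cases e : b ∈ P y
        · exact Or.inr ⟨e, by rwa [mul_mem_cancel_left e]⟩
        · exact Or.inl ⟨c1 y hy hy1 b hb v hv e hv', e⟩
    refine perm_four h4 a3 ?_ fun d hd z hz e => b1 d (fun e => by simp [e] at hd) (by simp [hd]) z hz e.symm
    have h6 := relIndex_centralizer_normalizer_dvd Q
    rw [PGrp.card_mulAut_of_elemAb (p := 2) (d := 2) hab (fun z => Subtype.ext (a2 z (hQC z.2))) h4,
      normalizer_eq_top, relIndex_top_right, le_antisymm a3 hQC] at h6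
    obtain ⟨j, hj⟩ := b3
    have : j ∣ 3 := Nat.dvd_of_mul_dvd_mul_left two_pos (hj ▸ h6)
    rcases (Nat.dvd_prime Nat.prime_three).1 this with rfl | rfl
    · obtain ⟨n, hn, n1⟩ := exists_mem_ne_one hN0
      exact (h.norm_ne_top n1 (eq_top_iff.2 ((hmax ⊤ inferInstance le_top fun z _ => ⟨1, by
        simpa [hj] using Q.pow_index_mem z⟩).trans (hQC.trans ((cent_le_cent1 hn).trans (h.cent1_le n1)))))).elim
    · exact hj
  have c2 : ∀ y, y ^ p ∈ Q → y ^ p = 1 := fun y hy => by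
    by_contra hy1
    have y1 : y ≠ 1 := fun e => hy1 (by simp [e])
    obtain ⟨m, hm, hm'⟩ := h.not_le hN0 y1
    have := h.mul_self y1 hm' (c1 y hy hy1 m hm m hm hm' hm')
    rw [← sq, ← orderOf_dvd_iff_pow_eq_one, a1 m (hQC (hNQ hm)) fun e => hm' (e ▸ one_mem _)] at this
    exact h2 ((Nat.prime_dvd_prime_iff_eq hp.out Nat.prime_two).1 this)
  obtain ⟨q, hq, hqp, R, L, t, r1, r2, r3, r4, r5, r6, r7⟩ := Part.exists_norm hp.out hmax b3 fun k => by
    obtain ⟨s, -, hs⟩ := cauchy (H := ⊤) Nat.prime_two (k.trans (card_top (G := G) ▸ Q.index_dvd_card))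
    have k1 : ∀ s : G, orderOf s = 2 → ∀ w ∈ N, s * w * s⁻¹ = w⁻¹ := fun s hs w hw =>
      Frob.conj_eq_inv_of_fpf (by rw [← sq, ← hs, pow_orderOf_eq_one]) (hn s) (b1 s
        (fun e => by simp [e] at hs) fun e => h2 ((Nat.prime_dvd_prime_iff_eq hp.out Nat.prime_two).1 (hs ▸ e))) hw
    refine ⟨s, fun e => h2 (by rw [← a1 s (hQC e) fun e => by simp [e] at hs, hs]),
      by rw [← sq, ← hs, pow_orderOf_eq_one]; exact one_mem _, fun g => a3 (mem_cent_iff_conj.2 fun w hw => ?_)⟩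
    calc _ = g * s * g⁻¹ * (s⁻¹ * w * s⁻¹⁻¹) * (g * s * g⁻¹)⁻¹ := by group
      _ = _ := by rw [k1 _ (by rwa [orderOf_inv]) w hw, k1 _ (by rwa [orderOf_conj]) _ (inv_mem hw), inv_inv]
  have := Fact.mk hq
  have hR := piGrp_compl_of_isPGroup r1 hqp
  obtain ⟨v, hv, v1⟩ := exists_mem_ne_one hN0
  obtain ⟨a, ha, ha'⟩ := SetLike.not_le_iff_exists.1 r2
  have h1 := Transfer.pow_card_eq_one_of_coset_pow_eq_one hp.out hab r5 (fun v hv a ha => by
    obtain ⟨s1, s2⟩ := r6 _ (mul_mem (r3 (hNQ hv)) (r4 ha))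
    obtain ⟨k, hk⟩ := r7 _ s2
    rw [← mul_assoc]
    refine c2 _ (zpowers_le.2 hk (mem_zpowers_pow_iff.2 (Nat.Coprime.pow_left k
      ((Nat.Prime.coprime_iff_not_dvd hq).2 fun e => hqp (((b2 _ (dvd_orderOf hp.out s1 s2)).pow p) q hq e))))))
    (eq_bot_iff.2 fun w hw => b1 a (fun e => ha' (e ▸ one_mem _)) (fun e => hR.piElt ha p hp.out e rfl) w hw.1
      (mem_cent_iff.1 hw.2 a ha)) hv
  exact ((piGrp_compl_singleton hp.out).1 hR (a1 v (hQC (hNQ hv)) v1 ▸ orderOf_dvd_of_pow_eq_one h1)).elim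

end Gen

end Cfsg.Agent.Part
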