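import Mathlib
import Cfsg.Agent.Lib.Part.Baer
import Cfsg.Agent.Lib.BSW.Bruhat

/-!
# Partitions: the characteristic two case and the involution centralizers
-/

set_option autoImplicit false

namespace Cfsg.Agent.Part

open Subgroup Cfsg.Agent.Coprime Cfsg.Agent.OO
open scoped Pointwise commutatorElement

universe u

variable {G : Type u} [Group G] [Finite G] {H S M : Subgroup G} {a b g s t u x y : G}

omit [Finite G] in
theorem ord_two (u1 : u ≠ 1) (u2 : u * u = 1) : orderOf u = 2 := orderOf_eq_prime ((sq u).trans u2) u1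

omit [Finite G] in
theorem mul_self_of_ord (h : orderOf u = 2) : u * u = 1 := by rw [← sq, ← h, pow_orderOf_eq_one]

theorem exists_half (h : ¬ Odd (orderOf g)) : ∃ n, g ^ n ≠ 1 ∧ g ^ n * g ^ n = 1 := by
  obtain ⟨k, hk⟩ := Nat.not_odd_iff_even.1 h
  have := orderOf_pos g
  exact ⟨k, pow_ne_one_of_lt_orderOf (by omega) (by omega), by rw [← pow_add, ← hk, pow_orderOf_eq_one]⟩

theorem odd_mul (hc : ∀ z ∈ H, z ≠ 1 → z * z = 1 → ∀ g, g * z = z * g → g ∈ H) (hs : s ∈ H)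
    (s1 : s ≠ 1) (s2 : s * s = 1) (hu : u ∉ H) (u2 : u * u = 1) : Odd (orderOf (s * u)) := by
  by_contra h
  obtain ⟨k, c1, c2⟩ := exists_half h
  have h1 : s * (s * u) * s⁻¹ = (s * u)⁻¹ := by
    rw [mul_inv_rev, BSW.inv_eq_of_mul_self u2, ← mul_assoc, s2, one_mul]
  have h2 : s * (s * u) ^ k * s⁻¹ = (s * u) ^ k := by
    rw [← conj_pow, h1, inv_pow, BSW.inv_eq_of_mul_self c2]
  exact hu ((H.mul_mem_cancel_left hs).1 (hc _ (hc s hs s1 s2 _ (mul_inv_eq_iff_eq_mul.1 h2).symm) c1 c2 _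
    ((Commute.refl (s * u)).pow_right k).eq))

theorem hypC_of_small (hS : Syl 2 S ⊤) (hN : 𝐍(S) ≠ ⊤) (ht : t ∈ Zc S) (t1 : t ≠ 1) (hs : s ∈ S)
    (s1 : s ≠ 1) (hst : s ≠ t) (h : ∀ z ∈ S, z ≠ 1 → ∀ g, g * z = z * g → g * g = 1) :
    ∃ τ, BSW.HypC S τ := by
  have h2 : ∀ g ∈ S, g * g = 1 := fun g hg => h t ht.1 t1 g ((mem_Zc.1 ht).2 g hg)
  have h3 : ∀ z ∈ S, S ≤ 𝐂[z] := fun z hz g hg => mem_cent1.2 (by
    rw [← BSW.inv_eq_of_mul_self (h2 _ (mul_mem hg hz)), mul_inv_rev, BSW.inv_eq_of_mul_self (h2 g hg),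
      BSW.inv_eq_of_mul_self (h2 z hz)])
  have h4 : ∀ z ∈ S, z ≠ 1 → ∀ g, g * z = z * g ↔ g ∈ S := fun z hz z1 g => by
    rw [← mem_cent1, hS.hall.eq_of_le (h3 z hz) le_top (piGrp_singleton fun c =>
      ⟨1, Subtype.ext ((sq (c : G)).trans (h z hz z1 c (mem_cent1.1 c.2)))⟩)]
  have hI : BSW.HypI S := ⟨fun z hz z1 _ => h4 z hz z1, t, ht.1, t1, h2 t ht.1⟩
  obtain ⟨τ, h5, h6⟩ := hI.exists_inv_not_mem hN
  obtain ⟨g, rfl⟩ := hI.exists_conj_of_ne_top hN ht.1 t1 (h2 t ht.1) s1 (h2 s hs)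
  exact ⟨τ, hI, fun z hz z1 g e => (h4 z hz z1 g).1 e, ⟨g, hI.mem_norm_of_conj ht.1 t1 (h2 t ht.1) hs,
    fun e => hst (by rw [(h4 t ht.1 t1 g).2 e, mul_inv_cancel_right])⟩, h5, h6⟩

/-- Thompson's transfer lemma, for all involutions at once -/
theorem exists_sign (hM : Odd (M.index / 2)) : ∃ f : G →* ℤˣ, ∀ t : G, t * t = 1 →
    (∀ g : G, g * t * g⁻¹ ∉ M) → f t = -1 := by
  classical
  have := Fintype.ofFinite (G ⧸ M)
  refine ⟨(Equiv.Perm.sign).comp (MulAction.toPermHom G (G ⧸ M)), fun t ht h => ?_⟩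
  have h2 : (MulAction.toPermHom G (G ⧸ M) t) ^ 2 = 1 := by rw [← map_pow, sq, ht, map_one]
  have h0 : Fintype.card (Function.fixedPoints (MulAction.toPermHom G (G ⧸ M) t)) = 0 := by
    rw [Fintype.card_eq_zero_iff]
    refine ⟨fun ⟨q, hq⟩ => ?_⟩
    induction q using QuotientGroup.induction_on with | H g => ?_
    have hq' : ((t * g : G) : G ⧸ M) = (g : G ⧸ M) := hq
    exact h g⁻¹ (by simpa [mul_assoc] using QuotientGroup.eq.1 hq'.symm)
  rw [MonoidHom.comp_apply, Equiv.Perm.sign_of_pow_two_eq_one h2, h0, Nat.sub_zero, ← Nat.card_eq_fintype_card]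
  exact Odd.neg_one_pow hM

namespace Gen

variable {P : G → Subgroup G} (h : Gen P)
include h

theorem hypC_of_le (hS : Syl 2 S ⊤) (h0 : S ≠ ⊥) (hx : x ≠ 1) (hle : S ≤ P x) :
    ∃ τ, BSW.HypC (P x) τ := by
  have hn := h.nil hx
  have e : S = Op 2 (P x) := syl_eq_Op_of_nil hn (hS.hall.mono hle le_top).syl
  have c1 : ∀ z ∈ P x, z ≠ 1 → z * z = 1 → ∀ g, g * z = z * g → g ∈ P x := fun z hz z1 z2 g hg => by
    by_contra k
    refine k (hle (hS.mem_of_mem_norm (mem_top g)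
      (e ▸ norm_le_norm_Op 2 _ (h.mem_norm_of_comm hx hz z1 hg)) fun q hq hd => ?_))
    rw [h.orderOf_eq hx hz z1 k hg.symm, ord_two z1 z2] at hd
    exact (Nat.prime_dvd_prime_iff_eq hq Nat.prime_two).1 hd
  obtain ⟨t, ht, ho⟩ := cauchy Nat.prime_two (dvd_card_of_isPGroup (hS.isPGroup.to_le inf_le_left)
    (inf_Zc_ne_bot hn (e ▸ Op_normal 2 _) h0))
  have t1 : t ≠ 1 := fun e => by simp [e] at ho
  have t2 := mul_self_of_ord ho
  obtain ⟨htX, htc⟩ := mem_Zc.1 ht.2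
  have hI : BSW.HypI (P x) := by
    refine ⟨fun z hz z1 z2 y => ⟨c1 z hz z1 z2 y, fun hy => ?_⟩, t, htX, t1, t2⟩
    obtain ⟨g, -, hg⟩ := SetLike.exists_of_lt (h.norm_ne_top hx).lt_top
    obtain ⟨k, hk⟩ := BSW.exists_conj_of_odd z2 (BSW.conj_mul_self (g := g) t2) (odd_mul c1 hz z1 z2
      (fun e => hg (h.mem_norm_of_conj hx htX t1 e)) (BSW.conj_mul_self t2))
    generalize (z * (g * t * g⁻¹)) ^ k = a at hk
    obtain rfl : z = a⁻¹ * g * t * (a⁻¹ * g)⁻¹ := by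
      rw [mul_inv_rev, inv_inv, ← mul_assoc, mul_assoc a⁻¹, mul_assoc a⁻¹, hk]; group
    exact mem_cent1.1 (cent1_conj _ t ▸ mem_conj.2 (mem_cent1.2
      (htc _ (conj_mem_of_norm' (h.mem_norm_of_conj hx htX t1 hz) hy))))
  obtain ⟨τ, h1, h2⟩ := hI.exists_inv_not_mem (h.norm_ne_top hx)
  refine ⟨τ, hI, fun z hz z1 y hy => by_contra fun k0 => ?_, h.exists_norm hx, h1, h2⟩
  have hp := h.prime_orderOf hx hz z1 k0 hy.symm
  have h3 := h.orderOf_eq hx hz z1 k0 hy.symm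
  have h4 := h.mem_norm_of_comm hx hz z1 hy
  obtain ⟨a, ha, h5⟩ := hI.exists_inverted h1 h2 h4
  have h6 : y * a ∉ P x := by rwa [mul_mem_cancel_right ha]
  have h7 : (y * a) ^ orderOf y = 1 := h.pow_eq_one hx h6 (by
    simpa using mul_pow_mem h4 (conj_mem_of_norm h4 ha) (pow_orderOf_eq_one y ▸ one_mem _))
  have h8 := mul_mem h4 (le_norm_self _ ha)
  generalize y * a = k at h5 h6 h7 h8
  have := Fact.mk hp
  obtain ⟨c, hc, hc1⟩ := exists_mem_ne_one (inf_cent_ne_bot_of_isPGroup (Core.isPGroup_zpowers_of_pow_eq_one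
    (k := 1) (by rwa [pow_one])) (Op_isPGroup _ (P x)) (le_norm_Op _ (zpowers_le.2 h8))
    ((syl_Op_of_nil _ hn).ne_bot (h3 ▸ orderOf_dvd_card hz)))
  rw [cent_zpowers] at hc
  refine h1 (h.mem_norm_of_conj hx (Op_le _ _ hc.1) hc1 (Frob.conj_eq_inv_of_fpf h2 (conj_eq_self_iff.1
    (by rw [← cent1_conj, h5, cent1_inv])) (fun d hd e => by_contra fun d1 => ?_) hc.2 ▸
      inv_mem (Op_le _ _ hc.1)))
  have τ1 : τ ≠ 1 := fun e => h1 (e ▸ one_mem _)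
  have key : ∀ y, y * τ = τ * y ↔ y ∈ P τ := fun y => by
    obtain ⟨g, rfl⟩ := hI.exists_conj htX t1 t2 (fun e => h1 (le_norm_self _ e)) h2
    rw [h.conj, h.eq x hx t htX t1, ← mem_cent1, cent1_conj, mem_conj, mem_conj, mem_cent1,
      hI.cent t htX t1 t2]
  have k2 : k * k = 1 := by
    by_cases e' : k ∈ P τ
    · rwa [← (key k).2 e', mul_inv_cancel_right, ← mul_eq_one_iff_eq_inv] at h5
    refine h.mul_self τ1 e' ?_
    rw [show k * k = k * τ * k⁻¹ * τ⁻¹ by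
      rw [mul_assoc, mul_assoc, ← mul_assoc τ, ← conj_inv, h5, inv_inv]]
    exact mul_mem (conj_mem_of_norm (h.mem_norm_of_comm τ1 ((key d).1 e.symm) d1 (mem_cent1.1 hd).symm)
      (h.mem τ τ1)) (inv_mem (h.mem τ τ1))
  have := orderOf_dvd_of_pow_eq_one h7
  rw [ord_two (u := k) (fun e => h6 (e ▸ one_mem _)) k2, Nat.prime_dvd_prime_iff_eq Nat.prime_two hp, h3] at this
  exact k0 (c1 z hz z1 (mul_self_of_ord this.symm) y hy)

end Gen

namespace Par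

variable {P : G → Subgroup G} (h : Par P) (u1 : u ≠ 1) (u2 : u * u = 1)
include h u1 u2

omit [Finite G] in
theorem sq_of_comm (hs : s * u = u * s) (hs' : s ∉ P u) : s * s = 1 :=
  mul_self_of_ord (ord_two u1 u2 ▸ h.orderOf_eq' u1 hs' hs.symm)

omit [Finite G] in
theorem inv_of_comm (hs : s * u = u * s) (hs' : s ∉ P u) (hx : x ∈ P u) : s * x * s⁻¹ = x⁻¹ :=
  h.inverts u1 (h.cent1_le u1 (mem_cent1.2 hs)) hs' (h.sq_of_comm u1 u2 hs hs' ▸ one_mem _) hx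

variable (hy : y ∈ P u) (y2 : y * y ≠ 1)
include hy y2

omit [Finite G] in
theorem cent_le : 𝐂(P u) ≤ P u := fun g hg => by_contra fun k => y2 (mul_self_of_ord (by
  rw [← h.orderOf_eq u1 hy (fun e => y2 (by simp [e])) k (mem_cent_iff.1 hg y hy),
    h.orderOf_eq' u1 k (mem_cent_iff.1 hg u (h.mem u u1)), ord_two u1 u2]))

omit [Finite G] in
theorem mul_mem_of_comm (ha : a * u = u * a) (ha' : a ∉ P u) (hb : b * u = u * b) (hb' : b ∉ P u) :
    a * b ∈ P u := h.cent_le u1 u2 hy y2 (mem_cent_iff_conj.2 fun x hx => by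
  rw [show a * b * x * (a * b)⁻¹ = a * (b * x * b⁻¹) * a⁻¹ by group, h.inv_of_comm u1 u2 hb hb' hx,
    h.inv_of_comm u1 u2 ha ha' (inv_mem hx), inv_inv])

theorem comm_of_norm (hs : s * u = u * s) (hs' : s ∉ P u) (hg : g ∈ 𝐍(P u)) : g * u = u * g := by
  by_contra k
  have hi := fun x => h.inv_of_comm (x := x) u1 u2 hs hs'
  have hu := h.mem u u1
  have h1 : ∀ z ∈ 𝐍(P u), z * u ≠ u * z → Odd (orderOf z) := fun z hz k => by
    by_contra h1
    obtain ⟨n, h2, h3⟩ := exists_half h1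
    have h4 : z ^ n ∉ P u := fun e => h2 (h.pow_eq_one u1
      (fun e => k (ab_iff.1 (Frob.isMulCommutative_of_conj_eq_inv hi) z e u hu)) e)
    have := h.inverts u1 (pow_mem hz n) h4 (h3 ▸ one_mem _) hu
    rw [BSW.inv_eq_of_mul_self u2, mul_inv_eq_iff_eq_mul] at this
    exact k (h.comm_of_pow u1 hz h4 hu this.symm).symm
  have hsN := h.cent1_le u1 (mem_cent1.2 hs)
  set φ := (P u).normalizerMonoidHom
  have hc : Commute (φ ⟨g, hg⟩)⁻¹ (φ ⟨g * s, mul_mem hg hsN⟩) := by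
    refine Commute.inv_left (MulEquiv.ext fun x => Subtype.ext ?_)
    change g * (g * s * x * (g * s)⁻¹) * g⁻¹ = g * s * (g * x * g⁻¹) * (g * s)⁻¹
    rw [show g * s * (g * x * g⁻¹) * (g * s)⁻¹ = g * (s * (g * x * g⁻¹) * s⁻¹) * g⁻¹ by group,
      hi _ (conj_mem_of_norm hg x.2), conj_inv, ← hi _ x.2]
    group
  have h2 := hc.orderOf_mul_dvd_mul_orderOf
  rw [orderOf_inv, ← map_inv, ← map_mul, show (⟨g, hg⟩⁻¹ * ⟨g * s, mul_mem hg hsN⟩ : 𝐍(P u)) = ⟨s, hsN⟩ from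
    Subtype.ext (inv_mul_cancel_left g s)] at h2
  have h3 := (Nat.coprime_two_right.2 (((h1 g hg k).mul (h1 _ (mul_mem hg hsN) fun e => k (by
    rwa [mul_assoc, hs, ← mul_assoc, ← mul_assoc, mul_left_inj] at e))).of_dvd_nat (h2.trans (mul_dvd_mul
      (orderOf_mk g hg ▸ orderOf_map_dvd φ _) (orderOf_mk _ (mul_mem hg hsN) ▸ orderOf_map_dvd φ _))))).eq_one_of_dvd
    (orderOf_dvd_of_pow_eq_one (by
      rw [← map_pow, ← φ.map_one]; exact congrArg φ (Subtype.ext ((sq s).trans (h.sq_of_comm u1 u2 hs hs')))))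
  have h4 : s * y * s⁻¹ = y := congrArg Subtype.val (DFunLike.congr_fun (orderOf_eq_one_iff.1 h3) (⟨y, hy⟩ : P u))
  exact y2 (mul_eq_one_iff_eq_inv.2 (h4.symm.trans (hi y hy)))

end Par

end Cfsg.Agent.Part
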