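import Mathlib
import Cfsg.Agent.Lib.ODD.Hom
import Cfsg.Agent.Lib.OO.Pf.PF9_B

/-!
# Sharply triply transitive groups with abelian two point stabilizer are `PGL(2, F)`
-/

set_option autoImplicit false

namespace Cfsg.Agent.Part

open Subgroup Cfsg.Agent.OO Cfsg.Agent.ODD

variable {G : Type*} [Group G] {F : Type*} [Field F]

/-- generators and relations of `PGL(2, F)` inside `G` -/
structure Fr2 (w : G) (a k : F → G) : Prop where
  a_add : ∀ c d, a (c + d) = a c * a d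
  k_mul : ∀ c d, c ≠ 0 → d ≠ 0 → k (c * d) = k c * k d
  k_a : ∀ c, c ≠ 0 → ∀ d, k c * a d = a (c * d) * k c
  w2 : w * w = 1
  k_w : ∀ c, c ≠ 0 → k c * w = w * k c⁻¹
  str : w * a 1 * w = a (-1) * w * a (-1)

/-- The element of `G` attached to the matrix with entries `α, β, γ, δ`. -/
noncomputable def ge (w : G) (a k : F → G) (α β γ δ : F) : G :=
  fe w a (fun c => k (c ^ 2)) (α / (α * δ - β * γ)) β (γ / (α * δ - β * γ)) δ * k (α * δ - β * γ)

namespace Fr2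

variable {w : G} {a k : F → G} (fr : Fr2 w a k)
include fr

theorem k_one : k 1 = 1 := by
  have := fr.k_mul 1 1 one_ne_zero one_ne_zero
  rw [mul_one] at this
  exact mul_eq_left.1 this.symm

theorem frame : Frame w a fun c => k (c ^ 2) where
  a_add := fr.a_add
  h_mul c d hc hd := by rw [mul_pow, fr.k_mul _ _ (pow_ne_zero 2 hc) (pow_ne_zero 2 hd)]
  h_neg_one := by rw [neg_one_sq, fr.k_one]
  h_a c hc := fr.k_a _ (pow_ne_zero 2 hc)
  w2 := fr.w2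
  h_w c hc := by rw [fr.k_w _ (pow_ne_zero 2 hc), inv_pow]
  str c hc := by
    have h1 := fr.k_w _ (inv_ne_zero hc)
    have h2 := fr.k_mul _ _ (inv_ne_zero hc) hc
    have h3 := fr.k_a c hc (-c⁻¹)
    rw [inv_inv] at h1
    rw [inv_mul_cancel₀ hc, fr.k_one] at h2
    rw [mul_neg, mul_inv_cancel₀ hc] at h3
    calc w * a c * w = w * a (c * 1) * (w * (k c⁻¹ * k c)) := by rw [← h2, mul_one, mul_one]
      _ = k c⁻¹ * (w * a 1 * w) * k c := by
        rw [← mul_assoc w, ← fr.k_w c hc, ← mul_assoc, ← mul_assoc, mul_assoc w, ← fr.k_a c hc,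
          ← mul_assoc, ← h1]; group
      _ = k c⁻¹ * a (-1) * w * (a (-1) * k c) := by rw [fr.str]; group
      _ = _ := by
        rw [fr.k_a _ (inv_ne_zero hc), mul_assoc _ _ w, h1, ← h3, sq, fr.k_mul c c hc hc, mul_neg_one]
        group

theorem k_fe {α β γ δ c : F} (hd : α * δ - β * γ = 1) (hc : c ≠ 0) :
    k c * fe w a (fun c => k (c ^ 2)) α β γ δ = fe w a (fun c => k (c ^ 2)) α (c * β) (γ / c) δ * k c := by
  by_cases h0 : γ = 0
  · subst h0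
    have h1 : α ^ 2 ≠ 0 := pow_ne_zero 2 (by rintro rfl; simp at hd)
    rw [zero_div, fe_zero, fe_zero, ← mul_assoc, fr.k_a c hc, mul_assoc, mul_assoc, ← fr.k_mul _ _ hc h1,
      ← fr.k_mul _ _ h1 hc, mul_comm c (α ^ 2), mul_left_comm]
  · have h1 := div_ne_zero h0 hc
    rw [fe_ne _ _ _ h0, fe_ne _ _ _ h1, ← mul_assoc, ← mul_assoc, ← mul_assoc, fr.k_a c hc,
      mul_assoc _ _ w, fr.k_w c hc, mul_assoc _ (a _) (k c), show δ / (γ / c) = c * (δ / γ) by field_simp,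
      ← fr.k_a c hc, ← mul_assoc, ← mul_assoc, mul_assoc _ (k _) (k _), mul_assoc _ (k _) (k _),
      ← fr.k_mul _ _ (inv_ne_zero hc) (pow_ne_zero 2 h0), ← fr.k_mul _ _ (pow_ne_zero 2 h1) hc]
    congr 3
    · congr 2; field_simp
    · field_simp

theorem ge_mul {p q r s α β γ δ : F} (h' : p * s - q * r ≠ 0) (hd : α * δ - β * γ ≠ 0) :
    ge w a k (p * α + q * γ) (p * β + q * δ) (r * α + s * γ) (r * β + s * δ) =
      ge w a k p q r s * ge w a k α β γ δ := by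
  have e : (p * α + q * γ) * (r * β + s * δ) - (p * β + q * δ) * (r * α + s * γ) =
    (p * s - q * r) * (α * δ - β * γ) := by ring
  rw [ge, ge, ge, e, fr.k_mul _ _ h' hd, ← mul_assoc, ← mul_assoc, mul_assoc _ (k _) (fe _ _ _ _ _ _ _),
    fr.k_fe (by field_simp) h', ← mul_assoc, ← fr.frame.fe_mul (by field_simp) (by field_simp)]
  congr 3
  · field_simp
  · field_simp
  · field_simp
  · rw [div_mul_eq_mul_div, mul_left_comm, mul_div_cancel_left₀ _ h']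

/-- The homomorphism `GL(2, F) → G`. -/
noncomputable def phi : GL (Fin 2) F →* G :=
  MonoidHom.mk' (fun g => ge w a k (g.1 0 0) (g.1 0 1) (g.1 1 0) (g.1 1 1)) fun x g => by
    have hx := x.det_ne_zero
    have hg := g.det_ne_zero
    rw [Matrix.det_fin_two] at hx hg
    simp only [Units.val_mul, Matrix.mul_apply, Fin.sum_univ_two]
    exact fr.ge_mul hx hg

theorem mem_range {α β γ δ : F} (hd : α * δ - β * γ ≠ 0) : ge w a k α β γ δ ∈ fr.phi.range :=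
  ⟨.mkOfDetNeZero !![α, β; γ, δ] (by simpa using hd), rfl⟩

theorem nonempty_equiv (ha : ∀ c d, d ≠ 0 → a c * k d = 1 → c = 0 ∧ d = 1) {B : Subgroup G} (haB : ∀ c, a c ∈ B)
    (hkB : ∀ c, k c ∈ B) (hw : w ∉ B) (hs : fr.phi.range = ⊤) :
    Nonempty (G ≃* (GL (Fin 2) F ⧸ center (GL (Fin 2) F))) := by
  refine ⟨(QuotientGroup.quotientKerEquivOfSurjective fr.phi (MonoidHom.range_eq_top.1 hs)).symm.trans
    (QuotientGroup.quotientMulEquivOfEq (Subgroup.ext fun g => ?_))⟩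
  have hd := g.det_ne_zero
  rw [Matrix.det_fin_two] at hd
  rw [MonoidHom.mem_ker, Matrix.GeneralLinearGroup.mem_center_iff_val_mem_range_scalar]
  change ge w a k (g.1 0 0) (g.1 0 1) (g.1 1 0) (g.1 1 1) = 1 ↔ _
  have key : ∀ α β δ : F, α * δ - β * 0 ≠ 0 → ge w a k α β 0 δ = a (β / δ) * k (α / δ) :=
    fun α β δ h => by
    rw [mul_zero, sub_zero, mul_ne_zero_iff] at h
    obtain ⟨h1, h2⟩ := h
    rw [ge, zero_div, fe_zero, mul_zero, sub_zero, mul_assoc, ← fr.k_mul _ _ (by simp [h1, h2]) (by simp [h1, h2])]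
    congr 2 <;> field_simp
  constructor
  · intro hg
    by_cases h0 : g.1 1 0 = 0
    · rw [h0] at hg hd
      rw [key _ _ _ hd] at hg
      rw [mul_zero, sub_zero, mul_ne_zero_iff] at hd
      obtain ⟨h1, h2⟩ := ha _ _ (div_ne_zero hd.1 hd.2) hg
      rw [div_eq_zero_iff, or_iff_left hd.2] at h1
      rw [div_eq_one_iff_eq hd.2] at h2
      refine ⟨g.1 0 0, ?_⟩
      ext i j
      fin_cases i <;> fin_cases j <;> simp [h0, h1, h2]
    · rw [ge, fe_ne _ _ _ (div_ne_zero h0 hd)] at hg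
      refine (hw ?_).elim
      rw [← mul_mem_cancel_left (haB _), ← mul_mem_cancel_right (hkB _), ← mul_mem_cancel_right (haB _),
        ← mul_mem_cancel_right (hkB _), hg]
      exact one_mem _
  · rintro ⟨c, hc⟩
    rw [← hc] at hd ⊢
    simp only [Matrix.scalar_apply, Matrix.diagonal_apply_eq, ne_eq, zero_ne_one, not_false_eq_true,
      Matrix.diagonal_apply_ne, one_ne_zero] at hd ⊢
    rw [key _ _ _ hd, zero_div, div_self (by simpa using hd), fr.k_one, fr.frame.a_zero, one_mul]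

end Fr2

/-- the data of a sharply triply transitive group -/
structure Sh3 (P T : Subgroup G) (w : G) : Prop where
  ab : Ab P
  card : ♯T + 1 = ♯P
  T_le : T ≤ 𝐍(P)
  fpf : ∀ τ ∈ T, ∀ x ∈ P, τ * x = x * τ → τ = 1 ∨ x = 1
  w2 : w * w = 1
  w_not : w ∉ 𝐍(P)
  w_inv : ∀ τ ∈ T, τ * w = w * τ⁻¹
  decomp : ∀ b ∈ 𝐍(P), ∃ x ∈ P, ∃ τ ∈ T, b = x * τ
  bruhat : ∀ g, g ∉ 𝐍(P) → ∃ x ∈ P, ∃ τ ∈ T, ∃ y ∈ P, g = x * w * τ * y
  uniq : ∀ x ∈ P, w * x * w ∈ 𝐍(P) → x = 1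

namespace Sh3

variable [Finite G] {P T : Subgroup G} {w : G} (hZ : Sh3 P T w)
include hZ

theorem trans {v x : G} (hv : v ∈ P) (v1 : v ≠ 1) (hx : x ∈ P) (x1 : x ≠ 1) :
    ∃ τ ∈ T, τ * v * τ⁻¹ = x := by
  let f : Option T → P := fun o => match o with
    | none => 1
    | some τ => ⟨τ * v * (τ : G)⁻¹, conj_mem_of_norm (hZ.T_le τ.2) hv⟩
  have hf : Function.Injective f := by
    rintro (_ | σ) (_ | τ) e
    · rfl
    · exact (v1 (conj_eq_one_iff.1 (congrArg Subtype.val e).symm)).elim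
    · exact (v1 (conj_eq_one_iff.1 (congrArg Subtype.val e))).elim
    · have e : (σ : G) * v * (σ : G)⁻¹ = τ * v * (τ : G)⁻¹ := congrArg Subtype.val e
      have := (hZ.fpf _ (mul_mem (inv_mem τ.2) σ.2) v hv (by
        calc (τ : G)⁻¹ * σ * v = (τ : G)⁻¹ * (σ * v * (σ : G)⁻¹) * σ := by group
          _ = _ := by rw [e]; group)).resolve_right v1
      exact congrArg some (Subtype.ext (inv_mul_eq_one.1 this).symm)
  obtain ⟨_ | τ, e⟩ := (hf.bijective_of_nat_card_le (by rw [Finite.card_option, hZ.card])).2 ⟨x, hx⟩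
  · exact (x1 (congrArg Subtype.val e).symm).elim
  · exact ⟨τ, τ.2, congrArg Subtype.val e⟩

theorem main : ∃ (F : Type) (_ : Field F) (_ : Fintype F), Fintype.card F = ♯P ∧
    Nonempty (G ≃* (GL (Fin 2) F ⧸ center (GL (Fin 2) F))) := by
  classical
  obtain ⟨v, hv, v1⟩ := exists_mem_ne_one (H := P) fun e => by
    have := hZ.card
    rw [e, card_bot] at this
    exact (card_pos' T).ne' (by omega)
  have Tc : ∀ σ ∈ T, ∀ τ ∈ T, σ * τ = τ * σ := fun σ hσ τ hτ => by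
    have h := hZ.w_inv _ (mul_mem hσ hτ)
    rw [mul_assoc, hZ.w_inv _ hτ, ← mul_assoc, hZ.w_inv _ hσ, mul_assoc, mul_right_inj,
      ← mul_inv_rev, inv_inj] at h
    exact h.symm
  obtain ⟨F, _, φ, hc, hadd, hsurj, h0, h1, hmul⟩ := OO.Pf.P9.exists_field_grp (V := P) (B := T)
    hZ.ab hZ.T_le (ab_iff_der.1 (ab_iff.2 Tc) ▸ bot_le) (fun X hX hT => or_iff_not_imp_left.2 fun e => by
      obtain ⟨x, hx, x1⟩ := exists_mem_ne_one e
      refine le_antisymm hX fun y hy => ?_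
      by_cases y1 : y = 1
      · exact y1 ▸ one_mem _
      obtain ⟨τ, hτ, rfl⟩ := hZ.trans (hX hx) x1 hy y1
      exact conj_mem_of_norm (hT hτ) hx) hv v1
  have : Finite F := Nat.finite_of_card_ne_zero (hc ▸ (card_pos' P).ne')
  have := Fintype.ofFinite F
  refine ⟨F, inferInstance, this, Nat.card_eq_fintype_card.symm.trans hc, ?_⟩
  choose a ha e using hsurj
  have φinj : ∀ x ∈ P, ∀ y ∈ P, φ x = φ y → x = y := fun x hx y hy h => by
    have := hadd _ (mul_mem hx (inv_mem hy)) _ hy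
    rw [inv_mul_cancel_right, h, right_eq_add] at this
    exact mul_inv_eq_one.1 ((h0 _ (mul_mem hx (inv_mem hy))).1 this)
  have cj : ∀ τ ∈ T, ∀ x ∈ P, τ * x * τ⁻¹ ∈ P := fun τ hτ x hx => conj_mem_of_norm (hZ.T_le hτ) hx
  have aadd : ∀ c d, a (c + d) = a c * a d := fun c d =>
    φinj _ (ha _) _ (mul_mem (ha _) (ha _)) (by rw [hadd _ (ha _) _ (ha _), e, e, e])
  have a0 : ∀ c, a c = 1 ↔ c = 0 := fun c => by rw [← h0 _ (ha c), e]
  have aneg : ∀ c, a (-c) = (a c)⁻¹ := fun c =>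
    eq_inv_of_mul_eq_one_left (by rw [← aadd, neg_add_cancel, a0])
  have asurj : ∀ x ∈ P, ∃ c, a c = x := fun x hx => ⟨φ x, φinj _ (ha _) _ hx (e _)⟩
  have hk : ∀ c : F, ∃ τ ∈ T, c ≠ 0 → ∀ d, τ * a d = a (c * d) * τ := fun c => by
    by_cases c0 : c = 0
    · exact ⟨1, one_mem _, fun h => (h c0).elim⟩
    obtain ⟨τ, hτ, h⟩ := hZ.trans hv v1 (ha c) (mt (a0 c).1 c0)
    exact ⟨τ, hτ, fun _ d => mul_inv_eq_iff_eq_mul.1
      (φinj _ (cj τ hτ _ (ha d)) _ (ha _) (by rw [hmul τ hτ _ (ha d), h, e, e, e]))⟩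
  choose k hT ka using hk
  have kinj : ∀ τ ∈ T, ∀ c, c ≠ 0 → τ * a 1 = a c * τ → τ = k c := fun τ hτ c hc h =>
    (inv_mul_eq_one.1 ((hZ.fpf _ (mul_mem (inv_mem (hT c)) hτ) _ (ha 1) (by
      rw [mul_assoc, h, ← mul_assoc, ← mul_assoc, mul_left_inj, inv_mul_eq_iff_eq_mul, ← mul_assoc, ka c hc,
        mul_one, mul_inv_cancel_right])).resolve_right (mt (a0 1).1 one_ne_zero))).symm
  have ksurj : ∀ τ ∈ T, ∃ c, c ≠ 0 ∧ τ = k c := fun τ hτ => by
    obtain ⟨c, h⟩ := asurj _ (cj τ hτ _ (ha 1))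
    have c0 : c ≠ 0 := fun c0 => one_ne_zero ((a0 1).1 (conj_eq_one_iff.1 (h ▸ (a0 c).2 c0)))
    exact ⟨c, c0, kinj τ hτ c c0 (by rw [h, inv_mul_cancel_right])⟩
  have kmul : ∀ c d, c ≠ 0 → d ≠ 0 → k (c * d) = k c * k d := fun c d hc hd =>
    (kinj _ (mul_mem (hT c) (hT d)) _ (mul_ne_zero hc hd) (by
      rw [mul_assoc, ka d hd, ← mul_assoc, ka c hc, mul_one, mul_assoc])).symm
  have k1 : k 1 = 1 := (kinj 1 (one_mem _) 1 one_ne_zero (by simp)).symm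
  have kinv : ∀ c, c ≠ 0 → k c⁻¹ = (k c)⁻¹ := fun c hc =>
    eq_inv_of_mul_eq_one_left (by rw [← kmul _ _ (inv_ne_zero hc) hc, inv_mul_cancel₀ hc, k1])
  have kw : ∀ c, c ≠ 0 → k c * w = w * k c⁻¹ := fun c hc => by rw [hZ.w_inv _ (hT c), kinv c hc]
  have aN : ∀ c, a c ∈ 𝐍(P) := fun c => le_norm_self P (ha c)
  have kN : ∀ c, k c ∈ 𝐍(P) := fun c => hZ.T_le (hT c)
  have uq : ∀ c d, ∀ b ∈ 𝐍(P), ∀ b' ∈ 𝐍(P), a c * w * b = a d * w * b' → c = d := fun c d b hb b' hb' h => by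
    rw [← sub_eq_zero, ← neg_eq_zero, neg_sub, sub_eq_neg_add, ← a0, aadd, aneg]
    refine hZ.uniq _ (mul_mem (inv_mem (ha c)) (ha d)) ?_
    rw [show w * ((a c)⁻¹ * a d) * w = w * (a c)⁻¹ * (a d * w * b') * b'⁻¹ by group, ← h,
      show w * (a c)⁻¹ * (a c * w * b) * b'⁻¹ = w * w * b * b'⁻¹ by group, hZ.w2, one_mul]
    exact mul_mem hb (inv_mem hb')
  obtain ⟨_, hx, _, hτ, _, hy, E⟩ := hZ.bruhat (w * a 1 * w) fun h => one_ne_zero ((a0 1).1 (hZ.uniq _ (ha 1) h))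
  obtain ⟨x, rfl⟩ := asurj _ hx
  obtain ⟨y, rfl⟩ := asurj _ hy
  obtain ⟨μ, μ0, rfl⟩ := ksurj _ hτ
  have wi := inv_eq_of_mul_eq_one_right hZ.w2
  have kw' : ∀ c, (k c)⁻¹ * w = w * k c := fun c => by rw [hZ.w_inv _ (inv_mem (hT c)), inv_inv]
  have E1 : ∀ c, c ≠ 0 → w * k c * a 1 * (w * k c) = w * a c * w := fun c hc => by
    rw [mul_assoc w, ka c hc, mul_one, ← kw']; group
  have E' : ∀ c, c ≠ 0 → w * a c * w = a (c⁻¹ * x) * w * (k c * k μ * a y * k c) := fun c hc => by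
    calc w * a c * w = (k c)⁻¹ * (w * a 1 * w) * k c := by rw [← E1 c hc]; nth_rw 1 [← kw' c]; group
      _ = k c⁻¹ * a x * w * (k μ * a y * k c) := by rw [E, kinv c hc]; group
      _ = _ := by rw [ka _ (inv_ne_zero hc), mul_assoc _ _ w, kinv c hc, kw']; group
  have x0 : x ≠ 0 := by
    rintro rfl
    rw [(a0 0).2 rfl, one_mul, mul_assoc, mul_assoc, mul_right_inj] at E
    exact hZ.w_not ((mul_mem_cancel_left (aN 1)).1 (E ▸ mul_mem (kN μ) (aN y)))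
  have hN := fun c => mul_mem (mul_mem (mul_mem (kN c) (kN μ)) (aN y)) (kN c)
  obtain rfl : x = y := by
    simpa using uq _ (-y) _ (hN _) _ (mul_mem (kN μ) (inv_mem (aN x))) ((E' _ (neg_ne_zero.2 one_ne_zero)).symm.trans (by
      calc w * a (-1) * w = (w * a 1 * w)⁻¹ := by rw [aneg, mul_inv_rev, mul_inv_rev, wi, mul_assoc]
        _ = (a y)⁻¹ * ((k μ)⁻¹ * w⁻¹) * (a x)⁻¹ := by rw [E]; group
        _ = _ := by rw [wi, kw', aneg]; group))
  have hμ : μ * x = -1 := by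
    rw [← uq _ (μ * x) _ (hN _) _ (mul_mem (inv_mem (kN μ)) (inv_mem (aN 1))) ((E' _ (neg_ne_zero.2 x0)).symm.trans (by
      calc w * a (-x) * w = w * (a x)⁻¹ * (w * a 1 * w) * w⁻¹ * (a 1)⁻¹ := by rw [aneg]; group
        _ = w * w * (k μ * a x) * w⁻¹ * (a 1)⁻¹ := by rw [E]; group
        _ = _ := by rw [hZ.w2, ka μ μ0, wi, one_mul, mul_assoc _ _ w, hZ.w_inv _ (hT μ)]; group))]
    field_simp
  have ν0 := inv_ne_zero μ0
  have hν : μ⁻¹ * -1 = x := by rw [← hμ, inv_mul_cancel_left₀ μ0]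
  have fr : Fr2 (w * k μ⁻¹) a k := ⟨aadd, kmul, ka, by nth_rw 2 [← kw']; rw [← hZ.w2]; group,
    fun c hc => by
      rw [← mul_assoc, kw c hc, mul_assoc, mul_assoc, Tc _ (hT _) _ (hT _)],
    by rw [E1 _ ν0, E' _ ν0, inv_inv, hμ, ← kmul _ _ ν0 μ0, inv_mul_cancel₀ μ0, k1, one_mul, ← hν, ← ka _ ν0]; group⟩
  have r1 : P ≤ fr.phi.range := fun z hz => by
    obtain ⟨c, rfl⟩ := asurj z hz
    simpa [ge, fe_zero, k1] using fr.mem_range (α := 1) (β := c) (γ := 0) (δ := 1) (by simp)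
  have r2 : T ≤ fr.phi.range := fun z hz => by
    obtain ⟨c, c0, rfl⟩ := ksurj z hz
    simpa [ge, fe_zero, k1, c0, (a0 0).2 rfl] using fr.mem_range (α := c) (β := 0) (γ := 0) (δ := 1) (by simpa)
  have r3 : w ∈ fr.phi.range := by
    rw [← mul_mem_cancel_right (r2 (hT μ⁻¹))]
    simpa [ge, fe_ne _ _ _ one_ne_zero, k1, (a0 0).2 rfl] using
      fr.mem_range (α := 0) (β := -1) (γ := 1) (δ := 0) (by simp)
  refine fr.nonempty_equiv (fun c d d0 h => ?_) aN kN (by rw [mul_mem_cancel_right (kN _)]; exact hZ.w_not)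
    (eq_top_iff.2 fun g _ => ?_)
  · have h2 := eq_inv_of_mul_eq_one_right h
    have h3 := (hZ.fpf _ (hT d) _ (ha 1) (ab_iff.1 hZ.ab _ (h2 ▸ inv_mem (ha c)) _ (ha 1))).resolve_right
      (mt (a0 1).1 one_ne_zero)
    have h4 := ka d d0 1
    rw [h3, one_mul, mul_one, mul_one] at h4
    exact ⟨(a0 c).1 (by rwa [h3, mul_one] at h), by rw [← e d, ← h4, e]⟩
  by_cases hg : g ∈ 𝐍(P)
  · obtain ⟨x, hx, τ, hτ, rfl⟩ := hZ.decomp g hg
    exact mul_mem (r1 hx) (r2 hτ)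
  · obtain ⟨x, hx, τ, hτ, y, hy, rfl⟩ := hZ.bruhat g hg
    exact mul_mem (mul_mem (mul_mem (r1 hx) r3) (r2 hτ)) (r1 hy)

end Sh3

end Cfsg.Agent.Part
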