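import Mathlib
import Cfsg.Agent.Lib.Part.Even
import Cfsg.Agent.Lib.Part.PGL
import Cfsg.Agent.Lib.ODD.Main

/-!
# Partitions: the odd characteristic case
-/

set_option autoImplicit false

namespace Cfsg.Agent.Part

open Subgroup Cfsg.Agent.Coprime Cfsg.Agent.OO
open scoped Pointwise commutatorElement

universe u

variable {G : Type u} [Group G] [Finite G] {N S : Subgroup G} {g s t u v y : G} {P : G → Subgroup G}

omit [Finite G] in
theorem index_ker (f : G →* ℤˣ) (h : f s = -1) : f.ker.index = 2 := by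
  rw [Subgroup.index_ker, eq_top_iff.2 (show ⊤ ≤ f.range from fun u _ => by
    rcases Int.units_eq_one_or u with rfl | rfl
    exacts [one_mem _, ⟨s, h⟩]), card_top, Nat.card_eq_fintype_card, Fintype.card_units_int]

omit [Finite G] in
theorem eq_or_of_mem_zpowers (s2 : s * s = 1) (h : g ∈ zpowers s) : g = 1 ∨ g = s := by
  obtain ⟨n, rfl⟩ := h
  have : s ^ (2 : ℤ) = 1 := (zpow_two s).trans s2
  rcases Int.even_or_odd' n with ⟨k, rfl | rfl⟩ <;> simp [zpow_add, zpow_mul, this]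

theorem sol_of_odd (h : ¬ 2 ∣ ♯N) : Sol N := ft.solvable_of_not_dvd h

theorem sh3 (h : Par P) (hR : ∀ N : Subgroup G, N.Normal → Sol N → N = ⊥)
    (hII : ∀ u : G, u ≠ 1 → u * u = 1 → ∃ s, s * u = u * s ∧ s ∉ P u) [hN : N.Normal] (hi : N.index = 2)
    {Q₀ : Subgroup N} {m : ℕ} (hD : ODD.Data Q₀ m) {w₀ : N} (w2 : w₀ * w₀ = 1) (hw : w₀ ∉ 𝐍(Q₀))
    (hu : ∀ u ∈ P w₀, u ≠ 1 → u * u = 1 → u = w₀) :
    Sh3 (Q₀.map N.subtype) (BSW.Kt (Q₀.map N.subtype) w₀) w₀ := by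
  set Q := Q₀.map N.subtype with hQ
  have hQN : Q ≤ N := map_subtype_le _
  have hm : ∀ x : N, (x : G) ∈ Q ↔ x ∈ Q₀ := fun x => mem_map_iff_mem N.subtype_injective
  have hB : ∀ x : N, (x : G) ∈ 𝐍(Q) ↔ x ∈ 𝐍(Q₀) := fun x => by
    rw [← mem_subgroupOf, subgroupOf_normalizer_eq hQN, map_subtype_subgroupOf]
  have hc : ♯Q = 2 * m + 1 := (card_map_of_injective N.subtype_injective).trans hD.cardP
  have cc : ∀ x ∈ Q, x ≠ 1 → ∀ g ∈ N, g * x = x * g ↔ g ∈ Q := fun x hx x1 g hg => by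
    rw [← (hm ⟨g, hg⟩).symm, ← hD.cc ⟨x, hQN hx⟩ ((hm _).1 hx) (by simpa using x1), Subtype.ext_iff]; rfl
  have hab : Ab Q := ab_iff.2 fun a ha b hb => congrArg Subtype.val
    (hD.ab (x := ⟨a, hQN ha⟩) (y := ⟨b, hQN hb⟩) ((hm _).1 ha) ((hm _).1 hb))
  set w : G := (w₀ : G)
  have w2' : w * w = 1 := congrArg Subtype.val w2
  have wi := inv_eq_of_mul_eq_one_right w2'
  have hw' : w ∉ 𝐍(Q) := mt (hB w₀).1 hw
  have uniq : ∀ x ∈ Q, w * x * w ∈ 𝐍(Q) → x = 1 := fun x hx e => congrArg Subtype.val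
    (hD.uniq w2 hw (x := ⟨x, hQN hx⟩) ((hm _).1 hx) ((hB _).1 e))
  have fr : ∀ g, ∃ n ∈ N, ∃ b ∈ 𝐍(Q), n * b = g := fun g => by
    obtain ⟨p, hp, hd⟩ := exists_prime_dvd (H := Q) fun e => by
      have := hD.m_pos; rw [e, card_bot] at hc; omega
    have := Fact.mk hp
    obtain ⟨R, hR⟩ := exists_syl p Q
    obtain ⟨x, hx, x1⟩ := exists_mem_ne_one (hR.ne_bot hd)
    obtain ⟨n, hn, b, hb, e⟩ := ((hR.hall.trans_of_relIndex hQN fun q hq hd' e => by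
      have h1 := card_mul_relIndex hQN
      rw [hD.card, hc, mul_right_inj' (by omega)] at h1
      exact hq.ne_one (Nat.eq_one_of_dvd_coprimes ODD.Unip.coprime (e ▸ hc ▸ hd) (h1 ▸ hd'))).syl.frattini
        (normalIn_top.2 hN)).mem_iff.1 (mem_top g)
    refine ⟨n, hn, b, mem_norm_of_conj_mem fun z hz => (cc _ (hR.le (conj_mem_of_norm hb.2 hx))
      (BSW.conj_ne_one x1) _ (hN.conj_mem _ (hQN hz) b)).1 ?_, e⟩
    rw [conj_mul, conj_mul, ab_iff.1 hab z hz x (hR.le hx)]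
  have cos : ∀ g, g ∉ 𝐍(Q) → ∃ x ∈ Q, w * x⁻¹ * g ∈ 𝐍(Q) := fun g hg => by
    obtain ⟨n, hn, b, hb, rfl⟩ := fr g
    obtain ⟨x, hx, e⟩ := (hD.cosets w2 hw).2 ⟨n, hn⟩ fun e => hg (mul_mem ((hB _).2 e) hb)
    exact ⟨x, (hm x).2 hx, mul_assoc _ n b ▸ mul_mem ((hB _).2 e) hb⟩
  have dec : ∀ b ∈ 𝐍(Q), ∃ x ∈ Q, ∃ τ ∈ BSW.Kt Q w, b = x * τ := fun b hb => by
    obtain ⟨x, hx, e⟩ := cos (b * w) (by rwa [mul_mem_cancel_left hb])
    refine ⟨x, hx, x⁻¹ * b, BSW.mem_Kt.2 ⟨mul_mem (le_norm_self _ (inv_mem hx)) hb, ?_⟩, by group⟩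
    rwa [wi, ← mul_assoc, mul_assoc _ b]
  have one : ∀ τ ∈ Q, w * τ * w⁻¹ ∈ 𝐍(Q) → τ = 1 := fun τ h1 h2 => uniq τ h1 (by rwa [wi] at h2)
  have hT : ♯(BSW.Kt Q w) = 2 * m := by
    have h1 : (BSW.Kt Q w).subgroupOf N = BSW.Kt Q₀ w₀ := by
      ext z; rw [mem_subgroupOf, BSW.mem_Kt, BSW.mem_Kt, ← hB, ← hB]; rfl
    have h2 := relIndex_dvd_index_of_normal N (BSW.Kt Q w)
    rw [hi, Nat.dvd_prime Nat.prime_two, relIndex_eq_one] at h2
    rw [← card_inf_mul_relIndex N, inf_comm, ← subgroupOf_map_subtype, card_map_of_injective N.subtype_injective,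
      h1, hD.card_T w2 hw, h2.resolve_left fun e => ?_, mul_comm]
    obtain ⟨g, -, hg⟩ := SetLike.exists_of_lt (show N < ⊤ from lt_top_iff_ne_top.2 fun e => by simp [e] at hi)
    obtain ⟨n, hn, b, hb, rfl⟩ := fr g
    obtain ⟨x, hx, τ, hτ, rfl⟩ := dec b hb
    exact hg (mul_mem hn (mul_mem (hQN hx) (e hτ)))
  have fpf : ∀ τ ∈ BSW.Kt Q w, ∀ x ∈ Q, τ * x = x * τ → τ = 1 ∨ x = 1 := fun τ hτ x hx e => by
    refine or_iff_not_imp_right.2 fun x1 => by_contra fun τ1 => ?_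
    have τ2 : τ * τ = 1 := one _ ((cc x hx x1 _ (mul_self_mem_of_index_two hi τ)).1 (by
      rw [mul_assoc, e, ← mul_assoc, e, mul_assoc])) (mul_mem hτ hτ).2
    have x2 : x * x ≠ 1 := fun e => by
      have := ord_two x1 e ▸ hc ▸ orderOf_dvd_card hx
      omega
    have h1 : x ∈ P τ := h.mem_of_orderOf_ne τ1 (h.mem τ τ1) τ1 e fun e => x2 (mul_self_of_ord (e.trans (ord_two τ1 τ2)))
    obtain ⟨s, h2, h3⟩ := hII τ τ1 τ2
    have h4 : ∀ z ∈ Q, z * τ = τ * z := fun z hz => h.comm_of_norm τ1 τ2 h1 x2 h2 h3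
      (h.mem_norm_of_comm τ1 h1 x1 (ab_iff.1 hab z hz x hx))
    have hC : (𝐍(Q)).normalCore.Normal := inferInstance
    have h5 : ∀ d ∈ (𝐍(Q)).normalCore, d ∈ Q → d = 1 := fun d hd hd' => one d hd' (hd w)
    refine τ1 (mem_bot.1 (hR _ hC (sol_of_isPGroup (p := 2) fun c => ⟨1, Subtype.ext ?_⟩) ▸ fun b => ?_))
    · have h6 := mul_mem c.2 c.2
      refine (sq (c : G)).trans (h5 _ h6 ((cc x hx x1 _ (mul_self_mem_of_index_two hi _)).1 ?_))
      rw [← mul_inv_eq_iff_eq_mul, ← mul_inv_eq_one]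
      refine h5 _ ?_ (mul_mem (conj_mem_of_norm (normalCore_le _ h6) hx) (inv_mem hx))
      simpa only [mul_assoc, inv_inv] using mul_mem h6 (hC.conj_mem _ (inv_mem h6) x)
    by_cases hb : b⁻¹ ∈ 𝐍(Q)
    · exact mul_mem (mul_mem (inv_mem_iff.1 hb) hτ.1) hb
    obtain ⟨z, hz, e⟩ := cos _ hb
    rw [show b * τ * b⁻¹ = (w * z⁻¹ * b⁻¹)⁻¹ * (w * (z⁻¹ * (τ * z)) * w⁻¹) * (w * z⁻¹ * b⁻¹) by group,
      ← h4 z hz, inv_mul_cancel_left]
    exact mul_mem (mul_mem (inv_mem e) hτ.2) e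
  refine ⟨hab, by rw [hT, hc], fun _ h => h.1, fpf, w2', hw', fun τ hτ => ?_, dec, fun g hg => ?_, uniq⟩
  · obtain ⟨ι, hι, ho⟩ := cauchy Nat.prime_two (hT ▸ dvd_mul_right 2 m)
    have ι1 : ι ≠ 1 := fun e => by simp [e] at ho
    have ι2 := mul_self_of_ord ho
    have h1 : ∀ z ∈ BSW.Kt Q w, z ≠ 1 → z * z = 1 → ∀ x ∈ Q, z * x * z⁻¹ = x⁻¹ := fun z hz z1 z2 x hx =>
      Frob.conj_eq_inv_of_fpf z2 hz.1 (fun k hk e => (fpf z hz k hk e).resolve_left z1) hx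
    have h2 : ∀ z ∈ BSW.Kt Q w, z ≠ 1 → z * z = 1 → z = ι := fun z hz z1 z2 => by
      obtain ⟨x, hx, x1⟩ := hD.exists_ne_one
      rw [← BSW.inv_eq_of_mul_self ι2, ← mul_eq_one_iff_eq_inv]
      refine (fpf _ (mul_mem hz hι) x ((hm x).2 hx) (mul_inv_eq_iff_eq_mul.1 ?_)).resolve_right (by simpa using x1)
      rw [show z * ι * x * (z * ι)⁻¹ = z * (ι * x * ι⁻¹) * z⁻¹ by group, h1 ι hι ι1 ι2 _ ((hm x).2 hx),
        h1 z hz z1 z2 _ (inv_mem ((hm x).2 hx)), inv_inv]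
    have h3 : τ ∈ P ι := by_contra fun k => k (h2 τ hτ (fun e => k (e ▸ one_mem _)) (h.sq_of_comm ι1 ι2
      (mul_inv_eq_iff_eq_mul.1 (h2 _ (mul_mem (mul_mem hτ hι) (inv_mem hτ)) (BSW.conj_ne_one ι1)
        (BSW.conj_mul_self ι2))) k) ▸ h.mem ι ι1)
    have w1 : w ≠ 1 := fun e => hw' (e ▸ one_mem _)
    rw [← h.inv_of_comm ι1 ι2 (mul_inv_eq_iff_eq_mul.1 (h2 _ (ODD.Data.w_norm w2' hι) (BSW.conj_ne_one ι1)
      (BSW.conj_mul_self ι2))) (fun k => hw' (hu ι (h.eq ι ι1 w k w1 ▸ h.mem ι ι1) ι1 ι2 ▸ hι.1)) h3,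
      ← mul_assoc, ← mul_assoc, w2', one_mul, wi]
  · obtain ⟨x, hx, e⟩ := cos g hg
    obtain ⟨y, hy, τ, hτ, e⟩ := dec _ e
    refine ⟨x, hx, τ, hτ, τ⁻¹ * y * τ, conj_mem_of_norm' hτ.1 hy, ?_⟩
    calc g = x * w⁻¹ * (w * x⁻¹ * g) := by group
      _ = _ := by rw [e, wi]; group

theorem odd_case (h : Par P) (hR : ∀ N : Subgroup G, N.Normal → Sol N → N = ⊥)
    (hII : ∀ u : G, u ≠ 1 → u * u = 1 → ∃ s, s * u = u * s ∧ s ∉ P u) (hS : Syl 2 S ⊤) (hSt : S ≤ 𝐂[t])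
    (t1 : t ≠ 1) (t2 : t * t = 1) (hy : y ∈ P t) (y2 : y * y ≠ 1) :
    ∃ (F : Type) (_ : Field F) (_ : Fintype F), Odd (Fintype.card F) ∧ 5 ≤ Fintype.card F ∧
      (Nonempty (G ≃* Matrix.ProjectiveSpecialLinearGroup (Fin 2) F) ∨
        Nonempty (G ≃* (GL (Fin 2) F ⧸ center (GL (Fin 2) F)))) := by
  obtain ⟨s₀, hs₀, hs₀'⟩ := hII t t1 t2
  have tK := h.mem t t1
  have hab : Ab (P t) := Frob.isMulCommutative_of_conj_eq_inv fun x => h.inv_of_comm t1 t2 hs₀ hs₀'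
  have hKC : ∀ k ∈ P t, k * t = t * k := fun k hk => ab_iff.1 hab k hk t tK
  have hmul : ∀ k ∈ P t, ∀ s, s * t = t * s → k * s * t = t * (k * s) := fun k hk s hs => by
    rw [mul_assoc, hs, ← mul_assoc, hKC k hk, mul_assoc]
  have hN : ∀ g ∈ 𝐍(P t), g * t = t * g := fun g => h.comm_of_norm t1 t2 hy y2 hs₀ hs₀'
  have hidx : Odd ((P t).index / 2) := by
    rw [← relIndex_mul_index (show P t ≤ 𝐂[t] from fun k hk => mem_cent1.2 (hKC k hk)),
      relIndex_eq_two_iff.2 ⟨s₀, mem_cent1.2 hs₀, fun b hb => ?_⟩, Nat.mul_div_cancel_left _ two_pos,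
      ← Nat.not_even_iff_odd, even_iff_two_dvd]
    · exact fun e => hS.not_dvd (relIndex_top_right S ▸ e.trans (index_dvd_of_le hSt))
    · by_cases e : b ∈ P t
      · exact Or.inr ⟨e, by rwa [mul_mem_cancel_left e]⟩
      · exact Or.inl ⟨h.mul_mem_of_comm t1 t2 hy y2 (mem_cent1.1 hb) e hs₀ hs₀', e⟩
  have hodd : ∀ N : Subgroup G, N.Normal → Op' 2 N = ⊥ := fun N hN =>
    hR _ (normalIn_top.1 ((normalIn_top.2 hN).Opi _)) (sol_of_odd (not_dvd_Op' N))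
  obtain ⟨s, hs, hs', a, ha⟩ : ∃ s, s * t = t * s ∧ s ∉ P t ∧ ∃ g, g * s * g⁻¹ ∈ P t := by
    by_contra! k
    obtain ⟨f, hf⟩ := exists_sign hidx
    have h1 : ∀ s, s * t = t * s → s ∉ P t → f s = -1 := fun s hs hs' =>
      hf s (h.sq_of_comm t1 t2 hs hs') (k s hs hs')
    have h2 : P t ≤ f.ker := fun x hx => by
      have := h1 _ (hmul x hx _ hs₀) (by rwa [mul_mem_cancel_left hx])
      rwa [map_mul, h1 _ hs₀ hs₀', mul_eq_right] at this
    have h3 := syl_Op_of_nil 2 (nil_of_ab hab)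
    have h4 : t ∈ Op 2 (P t) := zpowers_le.1 (le_Op_of_nil (nil_of_ab hab) (zpowers_le.2 tK)
      (Core.isPGroup_zpowers_of_pow_eq_one (k := 1) ((sq t).trans t2)))
    have h5 := (Burnside_normal_complement (h3.hall.trans_of_relIndex h2 fun q hq hd e => by
      rw [← relIndex_mul_index h2, index_ker f (h1 _ hs₀ hs₀'), Nat.mul_div_cancel _ two_pos] at hidx
      exact hidx.not_two_dvd_nat (e ▸ hd)).syl fun g hg => cent_anti (Op_le _ _) (hab.le_cent (by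
        by_contra e
        have := h1 g (hN g (h.mem_norm_of_conj t1 tK t1 (Op_le _ _ (conj_mem_of_norm hg.2 h4)))) e
        rw [hg.1] at this
        exact absurd this (by decide)))).right_eq_iff.2 (hodd _ inferInstance)
    exact t1 (mem_bot.1 (hR _ (h5 ▸ inferInstance) h3.sol ▸ h4))
  have s1 : s ≠ 1 := fun e => hs' (e ▸ one_mem _)
  have s2 := h.sq_of_comm t1 t2 hs hs'
  have hinv := fun x => h.inv_of_comm (x := x) t1 t2 hs hs'
  have huq : ∀ u ∈ P t, u ≠ 1 → u * u = 1 → u = t := by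
    have h1 : ∀ u ∈ P t, u ≠ 1 → u * u = 1 → u * s = s * u ∧ u ∉ P s := fun u hu u1 u2 =>
      ⟨by rw [← mul_inv_eq_iff_eq_mul.1 ((hinv u hu).trans (BSW.inv_eq_of_mul_self u2))],
        fun e => u1 (h.eq_one_of_mem t1 hs' hu e)⟩
    intro u hu u1 u2
    have h2 : a⁻¹ * y * a ∈ P s := by
      rwa [← mem_conj, ← h.conj, h.eq t t1 _ ha (BSW.conj_ne_one s1)]
    rw [← BSW.inv_eq_of_mul_self t2, ← mul_eq_one_iff_eq_inv]
    exact h.eq_one_of_mem t1 hs' (mul_mem hu tK) (h.mul_mem_of_comm s1 s2 h2 (fun e => y2 (by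
      simpa [mul_assoc] using BSW.conj_mul_self (g := a) e)) (h1 u hu u1 u2).1 (h1 u hu u1 u2).2 (h1 t tK t1 t2).1
      (h1 t tK t1 t2).2)
  have hst : IsConj s t := isConj_iff.2 ⟨a, huq _ ha (BSW.conj_ne_one s1) (BSW.conj_mul_self s2)⟩
  have hcent : ∀ g, g * t = t * g ↔ g ∈ P t ∨ g * s ∈ P t := fun g =>
    ⟨fun e => or_iff_not_imp_left.2 fun e' => h.mul_mem_of_comm t1 t2 hy y2 e e' hs hs', fun e =>
      e.elim (hKC g) fun e => by simpa [mul_assoc, s2] using hmul _ e s hs⟩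
  have hti : ∀ x ∈ P t, x ≠ 1 → ∀ g, g * x * g⁻¹ ∈ P t → g * t = t * g := fun x hx x1 g e =>
    hN g (h.mem_norm_of_conj t1 hx x1 e)
  by_cases h1 : ∀ v : G, v ≠ 1 → v * v = 1 → IsConj v t
  · obtain ⟨F, _, _, h2, h3, -, h4⟩ := ODD.Hyp.main ⟨tK, t1, t2, hs', s2, hinv, hcent, hti,
      fun a b a1 a2 b1 b2 => (h1 a a1 a2).trans (h1 b b1 b2).symm⟩ (Op'_top (G := G) (p := 2) ▸ hodd ⊤ inferInstance)
      (hR _ inferInstance (sol_of_isPGroup (Op_top (G := G) 2 ▸ Op_isPGroup 2 ⊤)))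
    exact ⟨F, inferInstance, inferInstance, h2, h3, Or.inl h4⟩
  obtain ⟨v, v1, v2, hv, hvt⟩ : ∃ v : G, v ≠ 1 ∧ v * v = 1 ∧ ¬ IsConj v t ∧ v * t = t * v := by
    push Not at h1
    obtain ⟨v, v1, v2, hv⟩ := h1
    obtain ⟨g, -, hg⟩ := hS.exists_conj_le (Q := zpowers v) le_top
      (Core.isPGroup_zpowers_of_pow_eq_one (k := 1) ((sq v).trans v2))
    exact ⟨_, BSW.conj_ne_one v1, BSW.conj_mul_self v2, fun e => hv ((isConj_iff.2 ⟨g, rfl⟩).trans e),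
      mem_cent1.1 (hSt (hg (conj_mem_conj (mem_zpowers v))))⟩
  let q : P t →* G := MonoidHom.mk' (fun k => k * k) fun a b => by
    rw [coe_mul, mul_assoc, mul_assoc, ← mul_assoc (b : G), ab_iff.1 hab b b.2 a a.2, mul_assoc]
  have hq : q.range ≤ P t := by
    rintro _ ⟨k, rfl⟩
    exact mul_mem k.2 k.2
  have hsq : zpowers s ≤ 𝐍(q.range) := zpowers_le.2 (mem_norm_of_conj_mem (by
    rintro _ ⟨k, rfl⟩
    exact ⟨k⁻¹, by rw [map_inv, hinv _ (hq ⟨k, rfl⟩)]⟩))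
  have hM : (q.range ⊔ zpowers s).index = (P t).index := by
    have h2 : ♯q.ker = 2 := by
      rw [← ord_two t1 t2, ← orderOf_mk t tK, ← Nat.card_zpowers]
      congr 2
      refine le_antisymm (fun k hk => ?_) (zpowers_le.2 t2)
      by_cases e : k = 1
      · exact e ▸ one_mem _
      · exact (Subtype.ext (huq k k.2 (by simpa using e) hk) : k = ⟨t, tK⟩) ▸ mem_zpowers _
    refine Nat.eq_of_mul_eq_mul_left (card_pos' (P t)) ?_
    rw [card_mul_index, ← q.ker.card_mul_index, Subgroup.index_ker, h2, ← ord_two s1 s2, ← Nat.card_zpowers,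
      mul_comm _ (♯q.range), ← card_sup_of_inf_eq_bot (Or.inr hsq), card_mul_index]
    rw [inf_comm]
    exact inf_eq_bot_of_prime (by rw [Nat.card_zpowers, ord_two s1 s2]; exact Nat.prime_two)
      fun e => hs' (hq (e (mem_zpowers s)))
  obtain ⟨f, hf⟩ := exists_sign (hM ▸ hidx)
  replace hf : ∀ z : G, z ≠ 1 → z * z = 1 → ¬ IsConj z t → f z = -1 := fun z z1 z2 hz => hf z z2 fun g hg => by
    obtain ⟨_, ⟨k, rfl⟩, b, hb, e⟩ := (mem_sup_norm_left hsq).1 hg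
    refine hz ((isConj_iff.2 ⟨g, rfl⟩).trans ?_)
    rcases eq_or_of_mem_zpowers s2 hb with rfl | rfl
    · rw [huq _ (e ▸ mul_mem (hq ⟨k, rfl⟩) (one_mem _)) (BSW.conj_ne_one z1) (BSW.conj_mul_self z2)]
    · refine (isConj_iff.2 ⟨(k : G), ?_⟩).symm.trans hst
      rw [← e, ← hinv k k.2, ← mul_assoc, ← mul_assoc, mul_assoc _ b b, s2, BSW.inv_eq_of_mul_self s2, mul_one]
      rfl
  have hc : ∀ z, IsConj z t → f z = f t := fun z hz => isConj_iff_eq.1 (f.map_isConj hz)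
  have ht : f t = 1 := (Int.units_eq_one_or _).resolve_right fun e => by
    have h2 : t * s ∉ P t := by rwa [mul_mem_cancel_left tK]
    have h3 : f (t * s) = -1 := by
      by_cases e' : IsConj (t * s) t
      · rw [hc _ e', e]
      · exact hf _ (fun e => h2 (e ▸ one_mem _)) (h.sq_of_comm t1 t2 (hmul t tK s hs) h2) e'
    rw [map_mul, hc s hst, e] at h3
    exact absurd h3 (by decide)
  have hv' := hf v v1 v2 hv
  have h2 : ∀ z ∈ f.ker, z ≠ 1 → z * z = 1 → ∃ g ∈ f.ker, g * t * g⁻¹ = z := fun z hz z1 z2 => by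
    obtain ⟨g, rfl⟩ := isConj_iff.1 (by_contra fun e => absurd ((hf z z1 z2 e).symm.trans hz) (by decide) :
      IsConj z t).symm
    rcases Int.units_eq_one_or (f g) with e | e
    · exact ⟨g, e, rfl⟩
    · exact ⟨g * v, by simp [e, hv'], by rw [mul_assoc g, hvt]; group⟩
  have hH : ODD.Hyp ((P t).subgroupOf f.ker) ⟨t, ht⟩ ⟨s, (hc s hst).trans ht⟩ :=
    ⟨tK, fun e => t1 (congrArg Subtype.val e), Subtype.ext t2, hs', Subtype.ext s2, fun x hx => Subtype.ext (hinv x hx),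
      fun g => Subtype.ext_iff.trans (hcent g), fun x hx x1 g e => Subtype.ext (hti x hx (by simpa using x1) g e),
      fun a b a1 a2 b1 b2 => by
        obtain ⟨g, hg, e⟩ := h2 a a.2 (by simpa using a1) (congrArg Subtype.val a2)
        obtain ⟨g', hg', e'⟩ := h2 b b.2 (by simpa using b1) (congrArg Subtype.val b2)
        exact (isConj_iff.2 ⟨⟨g, hg⟩, Subtype.ext e⟩ : IsConj (⟨t, ht⟩ : f.ker) a).symm.trans
          (isConj_iff.2 ⟨⟨g', hg'⟩, Subtype.ext e'⟩)⟩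
  have h0 : pPrimeCore 2 f.ker = ⊥ := (map_eq_bot_iff_of_injective _ f.ker.subtype_injective).1
    ((Op'_eq_map _).symm.trans (hodd _ inferInstance))
  obtain ⟨m, Q, hD, hm⟩ : ∃ m, ∃ Q : Subgroup f.ker, ODD.Data Q m ∧ 2 ≤ m := by
    have h1 := hH.two_dvd
    have h3 := card_pos' ((P t).subgroupOf f.ker)
    by_cases hk : ♯((P t).subgroupOf f.ker) = 2
    · obtain ⟨Q, hQ⟩ := hH.data_of_two hk h0 ((map_eq_bot_iff_of_injective _ f.ker.subtype_injective).1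
        (hR (Op 2 f.ker) (normalIn_top.1 ((normalIn_top.2 inferInstance).Op 2)) (sol_of_isPGroup (Op_isPGroup 2 _))))
      exact ⟨2, Q, hQ, le_rfl⟩
    rcases hH.unip (by omega) with hu | ⟨m, hm, hu⟩ <;> obtain ⟨Q, hQ⟩ := hu.exists_data
    · exact ⟨_, Q, hQ, by omega⟩
    · exact ⟨_, Q, hQ, by omega⟩
  obtain ⟨w, w2, hw⟩ := hD.exists_inv_not_mem h0 hH.t1 hH.t2
  obtain ⟨F, _, _, h3, h4⟩ := (sh3 h hR hII (index_ker f hv') hD w2 hw fun u hu u1 u2 => by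
    obtain ⟨g, -, e⟩ := h2 w w.2 (fun e => hw ((Subtype.ext e : w = 1) ▸ one_mem _)) (congrArg Subtype.val w2)
    rw [← e, h.conj, mem_conj] at hu
    rw [← e, ← huq _ hu (by simpa using BSW.conj_ne_one (g := g⁻¹) u1)
      (by simpa using BSW.conj_mul_self (g := g⁻¹) u2)]
    group).main
  rw [card_map_of_injective f.ker.subtype_injective, hD.cardP] at h3
  exact ⟨F, inferInstance, inferInstance, ⟨m, h3⟩, by omega, Or.inr h4⟩

end Cfsg.Agent.Part
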